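import Cfsg.Agent.H63.GW.Shape
import Cfsg.Agent.H5.EvenCyclic.Outer
import Cfsg.Agent.H27.QuaternionSylow
import Cfsg.Agent.S2119

/-!
# GW programme, step 0 (c): automorphisms of `PSL(2,q)` and `A₇` in dihedral-type groups

A group with cyclic or dihedral Sylow 2-subgroups having `L2(q)` as a self-centralizing normal
subgroup is `L2(q)` or `PGL2(q)` extended by field automorphisms of odd order; over `A₇` nothing
is added.
-/

set_option autoImplicit false
set_option linter.unusedSectionVars false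
set_option linter.style.haveILetI false

namespace Cfsg.Agent.H4.GW

open Subgroup Cfsg.Agent Cfsg.Agent.H63.GW
open Cfsg.Agent.H56 (PSLn SLn semiAut fieldHom glMap toP smat)
open Cfsg.Agent.H5.EvenCyclic (fldAut linAut)

universe u v

/-! ### Three commuting involutions -/

variable {Y : Type u} [Group Y] [Finite Y]

/-- Two commuting involutions lie in a four group. -/
theorem exists_klein {a b : Y} (ha : a * a = 1) (hb : b * b = 1) (hab : Commute a b)
    (ha1 : a ≠ 1) (hb1 : b ≠ 1) (hne : a ≠ b) :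
    ∃ V : Subgroup Y, IsKleinFour ↥V ∧ (V : Set Y) = {1, a, b, a * b} := by
  have h1 : a * (a * b) = b := by rw [← mul_assoc, ha, one_mul]
  have h2 : a * b * a = b := by rw [mul_assoc, ← hab.eq, h1]
  have h3 : b * (a * b) = a := by rw [hab.eq, ← mul_assoc, hb, one_mul]
  have h4 : a * b * b = a := by rw [mul_assoc, hb, mul_one]
  have h5 : a * b * (a * b) = 1 := by rw [← mul_assoc, h2, hb]
  have h6 : b * a = a * b := hab.eq.symm
  have hai : a⁻¹ = a := inv_eq_of_mul_eq_one_left ha
  have hbi : b⁻¹ = b := inv_eq_of_mul_eq_one_left hb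
  let V : Subgroup Y :=
    { carrier := {1, a, b, a * b}
      one_mem' := by simp
      mul_mem' := by
        rintro x y (rfl | rfl | rfl | rfl) (rfl | rfl | rfl | rfl) <;>
          simp [ha, hb, h1, h2, h3, h4, h5, h6]
      inv_mem' := by
        rintro x (rfl | rfl | rfl | rfl) <;> simp [hai, hbi, h6] }
  refine ⟨V, H39.klein_of_card_exponent ?_ ?_, rfl⟩
  · show Nat.card ({1, a, b, a * b} : Set Y) = 4
    have hab1 : a * b ≠ 1 := fun h => hne ((mul_eq_one_iff_eq_inv.1 h).trans hbi)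
    have habA : a * b ≠ a := fun h => hb1 (by simpa using h)
    have habB : a * b ≠ b := fun h => ha1 (by simpa using h)
    rw [Nat.card_coe_set_eq, Set.ncard_insert_of_notMem (by simp [ha1.symm, hb1.symm, hab1.symm]),
      Set.ncard_insert_of_notMem (by simp [hne, habA.symm]), Set.ncard_pair habB.symm]
  · intro t ht
    rcases (show t ∈ ({1, a, b, a * b} : Set Y) from ht) with rfl | rfl | rfl | rfl <;>
      simp [pow_two, ha, hb, h5]

/-- There is no elementary subgroup of order eight. -/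
theorem no_three (h : SylowDType Y) {a b z : Y} (ha : a * a = 1) (hb : b * b = 1) (hz : z * z = 1)
    (hab : Commute a b) (haz : Commute a z) (hbz : Commute b z) (ha1 : a ≠ 1) (hb1 : b ≠ 1)
    (hne : a ≠ b) (hza : z ≠ a) (hzb : z ≠ b) (hzab : z ≠ a * b) : z = 1 := by
  by_contra hz1
  obtain ⟨V, hV, hVs⟩ := exists_klein ha hb hab ha1 hb1 hne
  have hd : Disjoint V (zpowers z) := by
    rw [Subgroup.disjoint_def]
    intro x hx hxz
    obtain ⟨i, rfl⟩ := mem_zpowers_iff.1 hxz
    have hz2 : z ^ (2 : ℤ) = 1 := by rw [zpow_two, hz]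
    rcases Int.even_or_odd i with ⟨j, rfl⟩ | ⟨j, rfl⟩
    · rw [← two_mul, zpow_mul, hz2, one_zpow]
    · rw [zpow_add_one, zpow_mul, hz2, one_zpow, one_mul] at hx ⊢
      have hx' : z ∈ ({1, a, b, a * b} : Set Y) := hVs ▸ hx
      rcases hx' with h0 | h0 | h0 | h0
      exacts [h0, absurd h0 hza, absurd h0 hzb, absurd h0 hzab]
  have hcv : ∀ x ∈ V, Commute x z := fun x hx => by
    have hx' : x ∈ ({1, a, b, a * b} : Set Y) := hVs ▸ hx
    rcases hx' with rfl | rfl | rfl | rfl
    exacts [Commute.one_left z, haz, hbz, haz.mul_left hbz]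
  exact hz1 (eq_one_of_centralizes_four h hd (fun x hx y hy => by
    obtain ⟨i, rfl⟩ := mem_zpowers_iff.1 hy
    exact (hcv x hx).zpow_right i) hV le_rfl (mem_zpowers z) hz)

/-! ### The action on a normal subgroup -/

variable {T : Type v} [Group T]

/-- The action of `Y` on a normal subgroup, transported. -/
noncomputable def actHom (K : Subgroup Y) [K.Normal] (e : ↥K ≃* T) : Y →* MulAut T :=
  (MulAut.congr e).toMonoidHom.comp MulAut.conjNormal

variable {K : Subgroup Y} [K.Normal]

theorem actHom_apply (e : ↥K ≃* T) (y : Y) (t : T) :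
    actHom K e y t = e (MulAut.conjNormal y (e.symm t)) := rfl

theorem actHom_injective (hC : centralizer (K : Set Y) = ⊥) (e : ↥K ≃* T) :
    Function.Injective (actHom K e) := by
  refine (injective_iff_map_eq_one _).2 fun g hg => ?_
  have : g ∈ centralizer (K : Set Y) := mem_centralizer_iff.2 fun y hy => by
    have h := actHom_apply e g (e ⟨y, hy⟩)
    rw [hg, e.symm_apply_apply, MulAut.one_apply] at h
    have h' := congrArg Subtype.val (e.injective h)
    rw [MulAut.conjNormal_apply] at h'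
    exact eq_mul_inv_iff_mul_eq.1 h'
  rwa [hC, mem_bot] at this

theorem actHom_symm (e : ↥K ≃* T) (t : T) :
    actHom K e ((e.symm t : ↥K) : Y) = MulAut.conj t := by
  ext z
  rw [actHom_apply, MulAut.conj_apply]
  conv_rhs => rw [← e.apply_symm_apply t, ← e.apply_symm_apply z, ← map_inv, ← map_mul, ← map_mul]
  congr 1

theorem mem_of_actHom_eq_conj (hC : centralizer (K : Set Y) = ⊥) (e : ↥K ≃* T) {y : Y} {t : T}
    (h : actHom K e y = MulAut.conj t) : y ∈ K := by
  rw [actHom_injective hC e (h.trans (actHom_symm e t).symm)]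
  exact SetLike.coe_mem _

/-! ### Fields -/

section field

variable {F : Type} [Field F] [Fintype F]

theorem two_ne (hodd : Odd (Fintype.card F)) : (2 : F) ≠ 0 :=
  Ring.two_ne_zero (H5.EvenCyclic.two_ne_zero_of_odd hodd)

theorem odd_card_subfield (hodd : Odd (Fintype.card F)) (F₀ : Subfield F) :
    Odd (Nat.card F₀) := by
  have h1 : ringChar F₀ ≠ 2 := by
    intro h2
    refine H5.EvenCyclic.two_ne_zero_of_odd hodd ?_
    have hc : CharP F₀ 2 := h2 ▸ ringChar.charP F₀
    haveI : CharP F 2 := (RingHom.charP_iff_charP F₀.subtype 2).1 hc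
    exact ringChar.eq F 2
  haveI := Fintype.ofFinite F₀
  rw [Nat.card_eq_fintype_card, Nat.odd_iff]
  exact FiniteField.odd_card_of_char_ne_two h1

/-- The fixed elements of an involutory automorphism are squares. -/
theorem isSquare_of_fixed (hodd : Odd (Fintype.card F)) {σ : F ≃+* F}
    (hσσ : ∀ x, σ (σ x) = x) (hσ : σ ≠ RingEquiv.refl F) {c : F} (hc : σ c = c) : IsSquare c := by
  classical
  rcases eq_or_ne c 0 with rfl | hc0
  · exact ⟨0, by simp⟩
  obtain ⟨a, ha⟩ : ∃ a, σ a ≠ a := by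
    by_contra! h
    exact hσ (RingEquiv.ext h)
  set z := a - σ a with hz
  have hz0 : z ≠ 0 := sub_ne_zero.2 (Ne.symm ha)
  have hσz : σ z = -z := by rw [hz, map_sub, hσσ]; ring
  let F₀ : Subfield F := RingHom.eqLocusField (σ : F →+* F) (RingHom.id F)
  have hmem : ∀ x : F, x ∈ F₀ ↔ σ x = x := fun x => Iff.rfl
  haveI := Fintype.ofFinite F₀
  have hodd₀ : Odd (Fintype.card F₀) := Nat.card_eq_fintype_card (α := F₀) ▸ odd_card_subfield hodd F₀
  let d : F₀ := ⟨z * z, (hmem _).2 (by rw [map_mul, hσz, neg_mul_neg])⟩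
  have hd0 : d ≠ 0 := fun h => mul_ne_zero hz0 hz0 (congrArg Subtype.val h)
  have hd : ¬ IsSquare d := by
    rintro ⟨b, hb⟩
    have hb' : z * z = (b : F) * b := congrArg Subtype.val hb
    have hbf : σ (b : F) = b := (hmem _).1 b.2
    have hzf : σ z = z := by
      rcases mul_self_eq_mul_self_iff.1 hb' with h' | h'
      · rw [h', hbf]
      · rw [h', map_neg, hbf]
    refine mul_ne_zero (two_ne hodd) hz0 ?_
    linear_combination hσz - hzf
  let c₀ : F₀ := ⟨c, (hmem c).2 hc⟩
  have hc₀ : c₀ ≠ 0 := fun h => hc0 (congrArg Subtype.val h)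
  by_cases hs : IsSquare c₀
  · obtain ⟨b, hb⟩ := hs
    exact ⟨b, congrArg Subtype.val hb⟩
  · obtain ⟨b, hb⟩ := H5.EvenCyclic.exists_sq_of_not_sq hodd₀ (a := Units.mk0 c₀ hc₀)
      (b := Units.mk0 d hd0) hs hd
    have hb' : c * (z * z) = ((b : F₀) : F) * (b : F₀) :=
      congrArg Subtype.val (congrArg Units.val hb)
    refine ⟨((b : F₀) : F) / z, ?_⟩
    field_simp
    linear_combination hb'

/-- The norm of a non-square is not the square of a fixed element. -/
theorem norm_ne_sq (hodd : Odd (Fintype.card F)) {σ : F ≃+* F}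
    (hσσ : ∀ x, σ (σ x) = x) (hσ : σ ≠ RingEquiv.refl F) {ν c : F} (hν : ¬ IsSquare ν)
    (hc : σ c = c) : ν * σ ν ≠ c * c := by
  intro h
  have hν0 : ν ≠ 0 := fun e => hν (e ▸ ⟨0, by simp⟩)
  have hσν0 : σ ν ≠ 0 := fun e => hν0 (σ.injective (e.trans (map_zero σ).symm))
  have hc0 : c ≠ 0 := fun e => mul_ne_zero hν0 hσν0 (by rw [h, e, mul_zero])
  refine H5.EvenCyclic.mul_image_ne_one hodd σ hσσ hσ (ν := ν / c) (fun hs => hν ?_) ?_
  · have := hs.mul (isSquare_of_fixed hodd hσσ hσ hc)
    rwa [div_mul_cancel₀ _ hc0] at this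
  · rw [map_div₀, hc, div_mul_div_comm, h, div_self (mul_ne_zero hc0 hc0)]

end field

/-! ### `PSL(2,q)` -/

section psl

variable {F : Type} [Field F] [Fintype F] (e : ↥K ≃* PSLn 2 F)

theorem hInn (s : SLn 2 F) :
    linAut (Matrix.SpecialLinearGroup.toGL s) ∈ (actHom K e).range :=
  ⟨_, (actHom_symm e _).trans (H5.EvenCyclic.linAut_toGL s).symm⟩

theorem mem_of_det_sq (hC : centralizer (K : Set Y) = ⊥) {y : Y} {g : GL (Fin 2) F} {c : Fˣ}
    (hg : actHom K e y = linAut g) (hc : Matrix.GeneralLinearGroup.det g = c * c) : y ∈ K := by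
  set d := g * Matrix.GeneralLinearGroup.scalar (Fin 2) c⁻¹ with hd
  have hdet : Matrix.GeneralLinearGroup.det d = 1 := by
    have hsc : Matrix.GeneralLinearGroup.det (Matrix.GeneralLinearGroup.scalar (Fin 2) c⁻¹) =
        c⁻¹ * c⁻¹ := by
      apply Units.ext
      rw [Matrix.GeneralLinearGroup.val_det_apply, Matrix.GeneralLinearGroup.coe_scalar]
      simp [pow_two]
    rw [hd, map_mul, hc, hsc, ← mul_inv_rev, mul_inv_cancel]
  let s : SLn 2 F := ⟨(d : Matrix (Fin 2) (Fin 2) F), by
    rw [← Matrix.GeneralLinearGroup.val_det_apply, hdet, Units.val_one]⟩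
  refine mem_of_actHom_eq_conj hC e (t := toP s) ?_
  rw [hg, ← H5.EvenCyclic.linAut_toGL, show Matrix.SpecialLinearGroup.toGL s = d from Units.ext rfl,
    hd, map_mul, H5.EvenCyclic.linAut_scalar, mul_one]

/-- The field automorphism induced by an element. -/
noncomputable def fieldPartHom : Y →* RingAut F :=
  (fieldHom (F := F) (n := 2) le_rfl).comp (actHom K e)

theorem exists_semi (y : Y) : ∃ g, actHom K e y = semiAut g (fieldPartHom e y) := by
  obtain ⟨g, σ, h⟩ := H56.exists_decomp le_rfl (actHom K e y)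
  have h' := h.resolve_right fun h => absurd h.1 (by norm_num)
  refine ⟨g, ?_⟩
  rw [show fieldPartHom e y = fieldHom le_rfl (actHom K e y) from rfl, h', H56.fieldHom_semiAut]

theorem exists_lin {y : Y} (hy : y ∈ (fieldPartHom e).ker) :
    ∃ g, actHom K e y = linAut g := by
  obtain ⟨g, hg⟩ := exists_semi e y
  refine ⟨g, ?_⟩
  rw [hg, MonoidHom.mem_ker.1 hy]
  rfl

theorem le_ker : K ≤ (fieldPartHom e).ker := by
  intro y hy
  obtain ⟨s, hs⟩ := H56.toP_surjective (e ⟨y, hy⟩)
  rw [MonoidHom.mem_ker, show fieldPartHom e y = fieldHom le_rfl (actHom K e y) from rfl,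
    show y = ((e.symm (toP s) : ↥K) : Y) by rw [hs, e.symm_apply_apply], actHom_symm,
    ← H56.semiAut_eq_conj, H56.fieldHom_semiAut]
  rfl

include e in
/-- A perfect group between `PSL(2,q)` and its automorphism group is `PSL(2,q)`. -/
theorem psl_eq_top [Group.IsPerfect Y] (hC : centralizer (K : Set Y) = ⊥) : K = ⊤ := by
  obtain ⟨p, hp, k, hk, hcard⟩ := FiniteField.card' F
  haveI := Fact.mk hk
  obtain ⟨ε⟩ := H56.ringAut_equiv F (show 1 ≤ (k : ℕ) from k.pos) hcard
  have hcomm : ⁅(⊤ : Subgroup Y), (⊤ : Subgroup Y)⁆ = ⊤ := Group.IsPerfect.commutator_eq_top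
  have hM : (fieldPartHom e).ker = ⊤ := by
    rw [eq_top_iff, ← hcomm, commutator_le]
    intro a _ b _
    rw [MonoidHom.mem_ker, map_commutatorElement]
    refine ε.injective ?_
    rw [map_commutatorElement, map_one]
    exact commutatorElement_eq_one_iff_commute.2 (Commute.all _ _)
  rw [eq_top_iff, ← hcomm, commutator_le]
  intro a _ b _
  obtain ⟨g, hg⟩ := exists_lin e (y := a) (hM ▸ mem_top _)
  obtain ⟨h, hh⟩ := exists_lin e (y := b) (hM ▸ mem_top _)
  refine mem_of_det_sq e hC (g := g * h * g⁻¹ * h⁻¹) (c := 1) ?_ ?_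
  · simp only [commutatorElement_def, map_mul, map_inv, hg, hh]
  · rw [map_mul, map_mul, map_mul, map_inv, map_inv, mul_inv_cancel_comm, mul_inv_cancel, one_mul]

theorem exists_fixed_pair (hodd : Odd (Fintype.card F)) (σ : F ≃+* F) :
    ∃ s : SLn 2 F, (smat s).map σ = smat s ∧ toP s ≠ 1 ∧ toP s * toP s = 1 ∧
      toP s ≠ toP (H5.EvenCyclic.wm F) ∧ Commute (toP (H5.EvenCyclic.wm F)) (toP s) := by
  let F₀ : Subfield F := RingHom.eqLocusField (σ : F →+* F) (RingHom.id F)
  haveI := Fintype.ofFinite F₀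
  obtain ⟨a₀, b₀, hab⟩ := H27.QuaternionSylow.exists_sq_add_sq (F := F₀)
    (Nat.card_eq_fintype_card (α := F₀) ▸ odd_card_subfield hodd F₀)
  have ha : σ (a₀ : F) = a₀ := a₀.2
  have hb : σ (b₀ : F) = b₀ := b₀.2
  have hab' : (a₀ : F) ^ 2 + (b₀ : F) ^ 2 = -1 := by
    simpa using congrArg (Subtype.val : F₀ → F) hab
  set a : F := (a₀ : F)
  set b : F := (b₀ : F)
  let s : SLn 2 F := ⟨!![a, b; b, -a], by rw [Matrix.det_fin_two_of]; linear_combination -hab'⟩
  have hs : smat s = !![a, b; b, -a] := rfl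
  have h2 := two_ne hodd
  refine ⟨s, ?_, ?_, ?_, ?_, ?_⟩
  · rw [hs]; ext i j; fin_cases i <;> fin_cases j <;> simp [ha, hb]
  · intro h
    rw [← map_one (toP (n := 2) (F := F))] at h
    obtain ⟨c, -, hc⟩ := H56.toP_eq_iff.1 h
    have hc' : smat (1 : SLn 2 F) = c • smat s := hc
    rw [hs] at hc'
    have h00 := congrFun (congrFun hc' 0) 0
    have h11 := congrFun (congrFun hc' 1) 1
    simp [smat] at h00 h11
    exact h2 (by linear_combination h00 + h11)
  · rw [← map_mul, ← map_one (toP (n := 2) (F := F))]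
    refine H56.toP_eq_iff.2 ⟨-1, by ring, ?_⟩
    show smat (1 : SLn 2 F) = (-1 : F) • (smat s * smat s)
    rw [hs]
    ext i j
    fin_cases i <;> fin_cases j <;> simp [smat] <;>
      first | linear_combination hab' | ring1
  · intro h
    obtain ⟨c, -, hc⟩ := H56.toP_eq_iff.1 h
    have hc' : smat (H5.EvenCyclic.wm F) = c • smat s := hc
    rw [hs, H5.EvenCyclic.wm_coe] at hc'
    have h01 := congrFun (congrFun hc' 0) 1
    have h10 := congrFun (congrFun hc' 1) 0
    simp at h01 h10
    exact h2 (by linear_combination h01 - h10)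
  · show toP (H5.EvenCyclic.wm F) * toP s = toP s * toP (H5.EvenCyclic.wm F)
    rw [← map_mul, ← map_mul]
    refine H56.toP_eq_iff.2 ⟨-1, by ring, ?_⟩
    show smat s * smat (H5.EvenCyclic.wm F) = (-1 : F) • (smat (H5.EvenCyclic.wm F) * smat s)
    rw [hs, H5.EvenCyclic.wm_coe]
    ext i j
    fin_cases i <;> fin_cases j <;> simp [Matrix.mul_apply, Fin.sum_univ_two]

variable (h : SylowDType Y) (hodd : Odd (Fintype.card F))

include h hodd in
/-- No pure field automorphism of order two. -/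
theorem no_pure_two (hC : centralizer (K : Set Y) = ⊥) {σ : RingAut F} (hσ : σ * σ = 1)
    (hσ1 : σ ≠ 1) : fldAut σ ∉ (actHom K e).range := by
  rintro ⟨z, hz⟩
  obtain ⟨s, hfix, hs1, hs2, hsw, hsc⟩ := exists_fixed_pair hodd σ
  set Φ := actHom K e with hΦ
  have hinj := actHom_injective hC e
  let w : Y := ((e.symm (toP (H5.EvenCyclic.wm F)) : ↥K) : Y)
  let v : Y := ((e.symm (toP s) : ↥K) : Y)
  have hw : Φ w = linAut (Matrix.SpecialLinearGroup.toGL (H5.EvenCyclic.wm F)) :=
    (actHom_symm e _).trans (H5.EvenCyclic.linAut_toGL _).symm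
  have hv : Φ v = linAut (Matrix.SpecialLinearGroup.toGL s) :=
    (actHom_symm e _).trans (H5.EvenCyclic.linAut_toGL _).symm
  have hcomm : ∀ (t : SLn 2 F) (x : Y), (smat t).map σ = smat t →
      Φ x = linAut (Matrix.SpecialLinearGroup.toGL t) → Commute x z := by
    intro t x ht hx
    apply hinj
    rw [map_mul, map_mul, hz, hx, H5.EvenCyclic.fld_mul_lin]
    congr 2
    exact (Units.ext ht).symm
  have hzK : z ∉ K := fun hk => hσ1 (by
    have := le_ker e hk
    rwa [MonoidHom.mem_ker, show fieldPartHom e z = fieldHom le_rfl (actHom K e z) from rfl, ← hΦ,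
      hz, H5.EvenCyclic.fldAut_apply, H56.fieldHom_semiAut] at this)
  have hw2 : toP (H5.EvenCyclic.wm F) * toP (H5.EvenCyclic.wm F) = 1 := by
    rw [← pow_two]; exact orderOf_dvd_iff_pow_eq_one.1 (dvd_of_eq (H5.EvenCyclic.toP_wm_order hodd))
  have hw1 : toP (H5.EvenCyclic.wm F) ≠ 1 := fun h0 => by
    have := H5.EvenCyclic.toP_wm_order (F := F) hodd
    rw [h0, orderOf_one] at this
    exact absurd this (by norm_num)
  let ι : PSLn 2 F →* Y := K.subtype.comp e.symm.toMonoidHom
  have hι : Function.Injective ι := K.subtype_injective.comp e.symm.injective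
  have hz1 := no_three h (a := w) (b := v) (z := z)
    (show ι _ * ι _ = 1 by rw [← map_mul, hw2, map_one])
    (show ι _ * ι _ = 1 by rw [← map_mul, hs2, map_one])
    (hinj (by rw [map_mul, map_one, hz, ← map_mul, hσ, map_one]))
    (hsc.map ι)
    (hcomm _ w (by rw [H5.EvenCyclic.wm_coe]; ext i j; fin_cases i <;> fin_cases j <;> simp) hw)
    (hcomm _ v hfix hv)
    (fun h0 => hw1 (hι (h0.trans (map_one ι).symm)))
    (fun h0 => hs1 (hι (h0.trans (map_one ι).symm)))
    (fun h0 => hsw (hι h0).symm)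
    (fun h0 => hzK (h0 ▸ SetLike.coe_mem _))
    (fun h0 => hzK (h0 ▸ SetLike.coe_mem _))
    (fun h0 => hzK (h0 ▸ mul_mem (SetLike.coe_mem _) (SetLike.coe_mem _)))
  exact hzK (hz1 ▸ one_mem K)

include h hodd in
/-- Involutions induce no field automorphism. -/
theorem fieldPart_involution (hC : centralizer (K : Set Y) = ⊥) {y : Y} (hy : y * y = 1) :
    fieldPartHom e y = 1 := by
  by_contra hne
  obtain ⟨g, hg⟩ := exists_semi e y
  set σ := fieldPartHom e y with hσ
  have hσσ' : σ * σ = 1 := by rw [hσ, ← map_mul, hy, map_one]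
  have hσσ : ∀ x, σ (σ x) = x := fun x => RingEquiv.congr_fun hσσ' x
  have hσ1 : σ ≠ RingEquiv.refl F := hne
  by_cases hsq : IsSquare ((Matrix.GeneralLinearGroup.det g : Fˣ) : F)
  · obtain ⟨c, hc⟩ := H5.EvenCyclic.exists_sq_iff.1 hsq
    have h1 := H5.EvenCyclic.shift (Φ := actHom K e) (hInn e) (g := g) (σ := σ) ⟨y, hg⟩ c⁻¹
      (h := 1) (by rw [map_one, hc, ← mul_inv_rev, mul_inv_cancel])
    exact no_pure_two e h hodd hC hσσ' hne h1
  · have h1 : semiAut (g * glMap σ g) ((σ : F ≃+* F).trans σ) = 1 := by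
      rw [← H56.semiAut_mul, ← hg, ← map_mul, hy, map_one]
    obtain ⟨-, c, hc⟩ := H56.eq_of_semiAut_eq_one le_rfl h1
    have hcomm : glMap σ g * g = g * glMap σ g := by
      have hcc : g⁻¹ * Matrix.GeneralLinearGroup.scalar (Fin 2) c * g =
          Matrix.GeneralLinearGroup.scalar (Fin 2) c := by
        have hmem : Matrix.GeneralLinearGroup.scalar (Fin 2) c ∈ center (GL (Fin 2) F) := by
          rw [Matrix.GeneralLinearGroup.center_eq_range_scalar]; exact ⟨c, rfl⟩
        rw [mul_assoc, ← mem_center_iff.1 hmem g, inv_mul_cancel_left]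
      calc glMap σ g * g = g⁻¹ * (g * glMap σ g) * g := by rw [inv_mul_cancel_left]
        _ = g * glMap σ g := by rw [hc, hcc]
    have hfix : σ (c : F) = c := by
      have hgg : glMap σ (glMap σ g) = g := by
        apply Units.ext
        ext i j
        exact hσσ _
      have h2 : glMap σ (Matrix.GeneralLinearGroup.scalar (Fin 2) c) =
          Matrix.GeneralLinearGroup.scalar (Fin 2) c := by
        rw [← hc, map_mul, hgg, hcomm]
      have h3 := congrArg (fun M : GL (Fin 2) F => (M : Matrix (Fin 2) (Fin 2) F) 0 0) h2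
      simpa [H56.glMap_coe, Matrix.GeneralLinearGroup.coe_scalar] using h3
    have hdet : ((Matrix.GeneralLinearGroup.det g : Fˣ) : F) *
        σ ((Matrix.GeneralLinearGroup.det g : Fˣ) : F) = (c : F) * c := by
      have := congrArg Matrix.GeneralLinearGroup.det hc
      rw [map_mul, H5.EvenCyclic.det_glMap] at this
      have := congrArg Units.val this
      rw [Units.val_mul, Matrix.GeneralLinearGroup.val_det_apply
        (Matrix.GeneralLinearGroup.scalar (Fin 2) c), Matrix.GeneralLinearGroup.coe_scalar] at this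
      simpa [pow_two] using this
    exact norm_ne_sq hodd hσσ hσ1 hsq hfix hdet

end psl

/-- Sylow 2-subgroups lie in every normal subgroup containing all involutions. -/
theorem sylow_le_of_involutions (h : SylowDType Y) (hV : ∃ V : Subgroup Y, IsKleinFour ↥V)
    {M : Subgroup Y} (hM : ∀ y : Y, y * y = 1 → y ∈ M) (P : Sylow 2 Y) :
    (P : Subgroup Y) ≤ M := by
  haveI : Fact (Nat.Prime 2) := ⟨Nat.prime_two⟩
  obtain ⟨V, hV⟩ := hV
  rcases h P with hc | ⟨n, hn, ⟨e⟩⟩
  · exfalso
    obtain ⟨Q, hQ⟩ := (IsPGroup.of_card (p := 2) (n := 2) hV.card_four).exists_le_sylow (G := Y)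
    haveI := hc
    haveI : IsCyclic ↥(Q : Subgroup Y) := (Sylow.equiv P Q).isCyclic.1 hc
    haveI := hV
    exact IsKleinFour.not_isCyclic (G := V)
      (isCyclic_of_injective (inclusion hQ) (inclusion_injective hQ))
  · obtain ⟨l, c, s, -, -, hd⟩ := H39.exists_dGen (P : Subgroup Y) P.isPGroup' hn e
    have hs : s ∈ M := hM s (by rw [← pow_two, ← hd.os, pow_orderOf_eq_one])
    have hc : c ∈ M := by
      have h1 : c * s ∈ M := hM _ (by simpa using hd.out_mul_self 1)
      simpa using mul_mem h1 (inv_mem hs)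
    intro g hg
    have hz : ∀ x ∈ zpowers c, x ∈ M := fun x hx => (zpowers_le.2 hc) hx
    rcases hd.cases g hg with h1 | h1
    · exact hz g h1
    · simpa using mul_mem (hz _ h1) (inv_mem hs)

/-- Step 0 (c): over `L2(q)` only `PGL2(q)` and field automorphisms of odd order occur. -/
theorem psl_shape {F : Type} [Field F] [Fintype F] (h : SylowDType Y)
    (hodd : Odd (Fintype.card F)) (hC : centralizer (K : Set Y) = ⊥) (e : ↥K ≃* PSLn 2 F) :
    ∃ M : Subgroup Y, ∃ _ : M.Normal, K ≤ M ∧ Odd M.index ∧ IsCyclic (Y ⧸ M) ∧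
      (∀ p f : ℕ, p.Prime → Fintype.card F = p ^ f → M.index ∣ f) ∧
      (M = K ∨ Nonempty (↥M ≃* Matrix.ProjGenLinGroup (Fin 2) F)) := by
  classical
  haveI : Fact (Nat.Prime 2) := ⟨Nat.prime_two⟩
  set M := (fieldPartHom e).ker with hMdef
  have hKM : K ≤ M := le_ker e
  have hV : ∃ V : Subgroup Y, IsKleinFour ↥V := by
    obtain ⟨s, -, hs1, hs2, hsw, hsc⟩ := exists_fixed_pair hodd (RingEquiv.refl F)
    let ι : PSLn 2 F →* Y := K.subtype.comp e.symm.toMonoidHom
    have hι : Function.Injective ι := K.subtype_injective.comp e.symm.injective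
    have hw := H5.EvenCyclic.toP_wm_order (F := F) hodd
    obtain ⟨V, hV, -⟩ := exists_klein (Y := Y) (a := ι (toP (H5.EvenCyclic.wm F))) (b := ι (toP s))
      (by rw [← map_mul, ← pow_two, orderOf_dvd_iff_pow_eq_one.1 (dvd_of_eq hw), map_one])
      (by rw [← map_mul, hs2, map_one]) (hsc.map ι)
      (fun h0 => by
        rw [hι (h0.trans (map_one ι).symm), orderOf_one] at hw
        exact absurd hw (by norm_num))
      (fun h0 => hs1 (hι (h0.trans (map_one ι).symm))) (fun h0 => hsw (hι h0).symm)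
    exact ⟨V, hV⟩
  have hinv : ∀ y : Y, y * y = 1 → y ∈ M := fun y hy =>
    MonoidHom.mem_ker.2 (fieldPart_involution e h hodd hC hy)
  obtain ⟨P⟩ : Nonempty (Sylow 2 Y) := inferInstance
  have hodd' : Odd M.index := by
    refine Nat.not_even_iff_odd.1 fun he => P.not_dvd_index ?_
    exact he.two_dvd.trans (Subgroup.index_dvd_of_le (sylow_le_of_involutions h hV hinv P))
  obtain ⟨p₀, hp₀, k, hk, hcard⟩ := FiniteField.card' F
  haveI := Fact.mk hk
  obtain ⟨ε⟩ := H56.ringAut_equiv F (show 1 ≤ (k : ℕ) from k.pos) hcard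
  let q : Y ⧸ M →* RingAut F := QuotientGroup.kerLift (fieldPartHom e)
  have hq : Function.Injective q := QuotientGroup.kerLift_injective _
  refine ⟨M, inferInstance, hKM, hodd',
    isCyclic_of_injective (ε.toMonoidHom.comp q) (ε.injective.comp hq), ?_, ?_⟩
  · intro p f hp hf
    have h1 : M.index ∣ Nat.card (Multiplicative (ZMod (k : ℕ))) :=
      Subgroup.card_dvd_of_injective (ε.toMonoidHom.comp q) (ε.injective.comp hq)
    have hfk : f = (k : ℕ) := by
      have hpk : p = p₀ := by
        have hd : p₀ ∣ p ^ f := hf ▸ hcard ▸ dvd_pow_self p₀ k.pos.ne'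
        exact ((Nat.prime_dvd_prime_iff_eq hk hp).1 (hk.dvd_of_dvd_pow hd)).symm
      subst hpk
      exact Nat.pow_right_injective hp.two_le (hf.symm.trans hcard)
    rw [Nat.card_eq_fintype_card, Fintype.card_multiplicative, ZMod.card] at h1
    exact hfk ▸ h1
  · by_cases hall : ∀ y ∈ M, y ∈ K
    · exact Or.inl (le_antisymm hall hKM)
    right
    push Not at hall
    obtain ⟨y₀, hy₀, hy₀K⟩ := hall
    obtain ⟨g₀, hg₀⟩ := exists_lin e hy₀
    have hg₀sq : ¬ IsSquare ((Matrix.GeneralLinearGroup.det g₀ : Fˣ) : F) := fun hs => by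
      obtain ⟨c, hc⟩ := H5.EvenCyclic.exists_sq_iff.1 hs
      exact hy₀K (mem_of_det_sq e hC hg₀ hc)
    set Ψ := (actHom K e).comp M.subtype with hΨdef
    have hrange : Ψ.range = (linAut (F := F)).range := by
      refine le_antisymm ?_ ?_
      · rintro _ ⟨y, rfl⟩
        obtain ⟨g, hg⟩ := exists_lin e y.2
        exact ⟨g, hg.symm⟩
      · rintro _ ⟨g, rfl⟩
        have hmem : linAut g ∈ (actHom K e).range := by
          by_cases hs : IsSquare ((Matrix.GeneralLinearGroup.det g : Fˣ) : F)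
          · obtain ⟨c, hc⟩ := H5.EvenCyclic.exists_sq_iff.1 hs
            exact H5.EvenCyclic.shift (hInn e) (g := 1) (σ := RingEquiv.refl F)
              (H56.semiAut_one (F := F) (n := 2) ▸ one_mem _) c (by rw [map_one, one_mul, hc])
          · have hinv' : ¬ IsSquare (((Matrix.GeneralLinearGroup.det g₀)⁻¹ : Fˣ) : F) := fun h' => by
              obtain ⟨c, hc⟩ := H5.EvenCyclic.exists_sq_iff.1 h'
              exact hg₀sq (H5.EvenCyclic.exists_sq_iff.2
                ⟨c⁻¹, by rw [← mul_inv_rev, ← hc, inv_inv]⟩)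
            obtain ⟨c, hc⟩ := H5.EvenCyclic.exists_sq_of_not_sq hodd hs hinv'
            exact H5.EvenCyclic.shift (hInn e) (σ := RingEquiv.refl F) ⟨y₀, hg₀⟩ c
              (by rw [← hc, mul_comm (Matrix.GeneralLinearGroup.det g), mul_inv_cancel_left])
        obtain ⟨y, hy⟩ := hmem
        refine ⟨⟨y, MonoidHom.mem_ker.2 ?_⟩, hy⟩
        show fieldHom le_rfl (actHom K e y) = 1
        rw [hy, H5.EvenCyclic.linAut_apply, H56.fieldHom_semiAut]
        rfl
    have hΨ : Function.Injective Ψ := (actHom_injective hC e).comp M.subtype_injective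
    exact ⟨(MonoidHom.ofInjective hΨ).trans <| (MulEquiv.subgroupCongr hrange).trans <|
      (QuotientGroup.quotientKerEquivRange _).symm.trans
        (QuotientGroup.quotientMulEquivOfEq (H56.pglToAut_ker le_rfl))⟩

/-! ### `A₇` -/

theorem alt_eq_top_of_perfect [Group.IsPerfect Y] (hC : centralizer (K : Set Y) = ⊥)
    (e : ↥K ≃* alternatingGroup (Fin 7)) : K = ⊤ := by
  have hcomm : ⁅(⊤ : Subgroup Y), (⊤ : Subgroup Y)⁆ = ⊤ := Group.IsPerfect.commutator_eq_top
  rw [eq_top_iff, ← hcomm, commutator_le]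
  intro a _ b _
  have hb := (S2119.result 7 (by norm_num) (by norm_num)).2
  obtain ⟨π, hπ⟩ := hb (actHom K e a)
  obtain ⟨ρ, hρ⟩ := hb (actHom K e b)
  refine mem_of_actHom_eq_conj hC e (t := ⟨π * ρ * π⁻¹ * ρ⁻¹, ?_⟩) ?_
  · rw [Equiv.Perm.mem_alternatingGroup, map_mul, map_mul, map_mul, map_inv, map_inv,
      mul_inv_cancel_comm, mul_inv_cancel]
  · rw [commutatorElement_def, map_mul, map_mul, map_mul, map_inv, map_inv, ← hπ, ← hρ, ← map_inv, ← map_inv, ← map_mul,
      ← map_mul, ← map_mul]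
    rfl

/-- Step 0 (c): nothing is added to `A₇`. -/
theorem alt_shape (h : SylowDType Y) (hC : centralizer (K : Set Y) = ⊥)
    (e : ↥K ≃* alternatingGroup (Fin 7)) : K = ⊤ := by
  classical
  let c : Equiv.Perm (Fin 7) ≃* MulAut (alternatingGroup (Fin 7)) :=
    MulEquiv.ofBijective _ (S2119.result 7 (by norm_num) (by norm_num))
  let f : Y →* Equiv.Perm (Fin 7) := c.symm.toMonoidHom.comp (actHom K e)
  have hf : Function.Injective f := c.symm.injective.comp (actHom_injective hC e)
  by_contra hne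
  have hA : alternatingGroup (Fin 7) ≤ f.range := fun π hπ => by
    refine ⟨((e.symm ⟨π, hπ⟩ : ↥K) : Y), ?_⟩
    show c.symm (actHom K e _) = π
    rw [actHom_symm, MulEquiv.symm_apply_eq]
    rfl
  obtain ⟨y₀, hy₀⟩ : ∃ y, f y ∉ alternatingGroup (Fin 7) := by
    by_contra! hall
    refine hne (eq_top_iff.2 fun y _ => mem_of_actHom_eq_conj hC e (t := ⟨f y, hall y⟩) ?_)
    rw [← c.apply_symm_apply (actHom K e y)]
    rfl
  have hsurj : Function.Surjective f := fun π => by
    by_cases hπ : π ∈ alternatingGroup (Fin 7)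
    · exact hA hπ
    · have : (f y₀)⁻¹ * π ∈ alternatingGroup (Fin 7) := by
        rw [Equiv.Perm.mem_alternatingGroup] at hπ hy₀ ⊢
        rw [map_mul, map_inv, (Int.units_eq_one_or _).resolve_left hπ,
          (Int.units_eq_one_or _).resolve_left hy₀]
        norm_num
      obtain ⟨y, hy⟩ := hA this
      exact ⟨y₀ * y, by rw [map_mul, hy, mul_inv_cancel_left]⟩
  have hS := h.congr (MulEquiv.ofBijective f ⟨hf, hsurj⟩)
  have := no_three hS (a := Equiv.swap (0 : Fin 7) 1) (b := Equiv.swap (2 : Fin 7) 3)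
    (z := Equiv.swap (4 : Fin 7) 5) (by decide) (by decide) (by decide)
    (show _ = _ by decide) (show _ = _ by decide) (show _ = _ by decide)
    (by decide) (by decide) (by decide) (by decide) (by decide) (by decide)
  exact absurd this (by decide)

end Cfsg.Agent.H4.GW
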