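import Cfsg.Agent.H4.GW.AutShape
import Cfsg.Agent.H63.PerfectAction

/-!
# GW programme, step 8: reduction to simple groups

If every simple group with dihedral Sylow 2-subgroups whose proper subgroups have known shapes
has a known shape, then Gorenstein-Walter holds for all finite groups.
-/

set_option autoImplicit false
set_option linter.unusedSectionVars false
set_option linter.style.haveILetI false

namespace Cfsg.Agent.H4.GW

open Subgroup Cfsg.Agent Cfsg.Agent.H63.GW
open Cfsg.Agent.H56 (PSLn)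

universe u

/-- The simple case of Gorenstein-Walter, with the inductive hypothesis. -/
def SimpleCase : Prop :=
  ∀ (G : Type u) [Group G] [Finite G], IsSimpleGroup G → ∀ (S : Sylow 2 G) (n : ℕ), 2 ≤ n →
    Nonempty ((S : Subgroup G) ≃* DihedralGroup n) →
    (∀ H : Subgroup G, H ≠ ⊤ → PerfectHyp ↥H) →
    (∀ (Z : Type u) [Group Z] [Finite Z], Nat.card Z < Nat.card G → SylowDType Z → PerfectHyp Z) →
    SimpleShape G

variable {Y : Type u} [Group Y] [Finite Y]

/-- Perfect groups have no nontrivial map to a solvable group. -/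
theorem eq_one_of_perfect {A : Type*} [Group A] [Group.IsPerfect Y] (f : Y →* A)
    (hA : Group.IsSolvable f.range) (y : Y) : f y = 1 := by
  by_contra hy
  haveI := hA
  haveI : Nontrivial f.range := ⟨⟨f y, y, rfl⟩, 1, fun h => hy (congrArg Subtype.val h)⟩
  haveI : Group.IsPerfect f.range := Group.IsPerfect.range f
  exact Group.IsPerfect.not_isSolvable f.range hA

/-- The last term of the derived series of a normal subgroup. -/
theorem exists_perfect_below (N : Subgroup Y) [N.Normal] (hN : ¬ Group.IsSolvable ↥N) :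
    ∃ K : Subgroup Y, K ≤ N ∧ K.Normal ∧ K ≠ ⊥ ∧ ⁅K, K⁆ = K := by
  obtain ⟨W, ⟨m, rfl⟩, hmin⟩ := Set.exists_min_image (Set.range (derivedSeries ↥N))
    (fun K => Nat.card K) (Set.toFinite _) ⟨_, 0, rfl⟩
  haveI : (derivedSeries (↥N) m).Characteristic := derivedSeries_characteristic _ _
  refine ⟨(derivedSeries (↥N) m).map N.subtype, map_subtype_le _, inferInstance, ?_, ?_⟩
  · intro e
    exact hN ⟨⟨m, (Subgroup.map_eq_bot_iff_of_injective _ N.subtype_injective).1 e⟩⟩
  · rw [← map_commutator, ← derivedSeries_succ]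
    congr 1
    exact eq_of_le_of_card_ge (derivedSeries_antitone _ (Nat.le_succ m)) (hmin _ ⟨m + 1, rfl⟩)

/-- A perfect core-free group with a dihedral Sylow subgroup has no central involution. -/
theorem no_central_involution (h : SylowDType Y) (hO : Cfsg.oddCore Y = ⊥) [Group.IsPerfect Y]
    [Nontrivial Y] {z : Y} (hz : z * z = 1) (hzc : ∀ g : Y, Commute g z) : z = 1 := by
  haveI : Fact (Nat.Prime 2) := ⟨Nat.prime_two⟩
  by_contra hz1
  obtain ⟨P⟩ : Nonempty (Sylow 2 Y) := inferInstance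
  have hns : ¬ IsPGroup 2 Y := fun hp => Group.IsPerfect.not_isSolvable Y (by
    haveI := hp.isNilpotent; infer_instance)
  refine hns (isPGroup_of_complement hO ((Fusion.frobenius_criterion P).2 fun Q hQ g hg ho => ?_))
  by_cases hK : IsKleinFour ↥Q
  swap
  · exact mem_centralizer_of_odd h (P.isPGroup'.to_le hQ) hK hg ho
  have hzQ : z ∈ Q := by
    by_contra hzQ
    have hd : Disjoint Q (zpowers z) := by
      rw [Subgroup.disjoint_def]
      intro x hx hxz
      obtain ⟨i, rfl⟩ := mem_zpowers_iff.1 hxz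
      have hz2 : z ^ (2 : ℤ) = 1 := by rw [zpow_two, hz]
      rcases Int.even_or_odd i with ⟨j, rfl⟩ | ⟨j, rfl⟩
      · rw [← two_mul, zpow_mul, hz2, one_zpow]
      · rw [zpow_add_one, zpow_mul, hz2, one_zpow, one_mul] at hx
        exact absurd hx hzQ
    refine hz1 (eq_one_of_centralizes_four h hd (fun x _ y hy => ?_) hK le_rfl (mem_zpowers z) hz)
    obtain ⟨i, rfl⟩ := mem_zpowers_iff.1 hy
    exact (hzc x).zpow_right i
  refine mem_centralizer_iff.2 fun v hv => ?_
  have hcomm : ∀ a ∈ Q, ∀ b ∈ Q, Commute a b := fun a ha b hb =>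
    congrArg Subtype.val ((IsKleinFour.isMulCommutative (G := Q)).is_comm.comm ⟨a, ha⟩ ⟨b, hb⟩)
  rcases eq_or_ne v 1 with rfl | hv1
  · simp
  rcases eq_or_ne v z with rfl | hvz
  · exact (hzc g).eq.symm
  have hfour : ∀ w ∈ Q, w = 1 ∨ w = z ∨ w = v ∨ w = z * v := by
    classical
    intro w hw
    by_contra hcon
    push Not at hcon
    haveI := Fintype.ofFinite ↥Q
    have h4 : Fintype.card ↥Q = 4 := by rw [← Nat.card_eq_fintype_card]; exact hK.card_four
    have hzv1 : z * v ≠ 1 := fun e => hvz (by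
      rw [← mul_left_cancel (e.trans hz.symm)])
    let f : Fin 5 → ↥Q := ![1, ⟨z, hzQ⟩, ⟨v, hv⟩, ⟨z * v, mul_mem hzQ hv⟩, ⟨w, hw⟩]
    have hf : Function.Injective f := by
      intro i j hij
      have hij' := congrArg Subtype.val hij
      fin_cases i <;> fin_cases j <;> simp [f] at hij' ⊢ <;>
        first
          | exact hz1 hij' | exact hz1 hij'.symm | exact hv1 hij' | exact hv1 hij'.symm
          | exact hvz hij' | exact hvz hij'.symm | exact hzv1 hij' | exact hzv1 hij'.symm
          | exact hcon.1 hij' | exact hcon.1 hij'.symm | exact hcon.2.1 hij'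
          | exact hcon.2.1 hij'.symm | exact hcon.2.2.1 hij' | exact hcon.2.2.1 hij'.symm
          | exact hcon.2.2.2 hij' | exact hcon.2.2.2 hij'.symm
    have := Fintype.card_le_of_injective f hf
    rw [h4] at this; simp at this
  have hgv : g * v * g⁻¹ ∈ Q := (mem_normalizer_iff.1 hg v).1 hv
  have hgz : g * z * g⁻¹ = z := by rw [(hzc g).eq, mul_inv_cancel_right]
  rcases hfour _ hgv with e | e | e | e
  · exact absurd (by simpa using e) hv1
  · exact absurd (mul_left_cancel (mul_right_cancel (e.trans hgz.symm))) hvz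
  · exact (mul_inv_eq_iff_eq_mul.1 e).symm
  · exfalso
    have he : g * (g * v * g⁻¹) * g⁻¹ = v := by
      calc g * (g * v * g⁻¹) * g⁻¹ = g * (z * v) * g⁻¹ := by rw [e]
        _ = g * z * g⁻¹ * (g * v * g⁻¹) := by group
        _ = v := by rw [hgz, e, ← mul_assoc, hz, one_mul]
    have h2 : Commute (g ^ 2) v := by
      refine mul_inv_eq_iff_eq_mul.1 ?_
      rw [pow_two, show g * g * v * (g * g)⁻¹ = g * (g * v * g⁻¹) * g⁻¹ by group, he]
    have hgv' : Commute g v := by
      obtain ⟨m, hm⟩ := Nat.coprime_two_right.1 ho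
      have h3 : g = (g ^ 2) ^ (m + 1) := by
        rw [← pow_mul, show 2 * (m + 1) = orderOf g + 1 by omega, pow_succ, pow_orderOf_eq_one,
          one_mul]
      rw [h3]; exact h2.pow_left _
    rw [hgv'.eq, mul_inv_cancel_right] at e
    exact hz1 (by simpa using e.symm)

/-- A solvable normal subgroup of a perfect core-free dihedral-type group is trivial. -/
theorem solvable_normal_eq_bot (h : SylowDType Y) (hO : Cfsg.oddCore Y = ⊥) [Group.IsPerfect Y]
    [Nontrivial Y] (N : Subgroup Y) [N.Normal] [Group.IsSolvable ↥N] : N = ⊥ := by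
  haveI : Fact (Nat.Prime 2) := ⟨Nat.prime_two⟩
  by_contra hN
  have hON : Cfsg.oddCore ↥N = ⊥ := by
    have h1 := Cores.map_pPrimeCore_le_of_normal (p := 2) N
    rw [show Cfsg.pPrimeCore 2 Y = ⊥ from hO, le_bot_iff] at h1
    exact (Subgroup.map_eq_bot_iff_of_injective _ N.subtype_injective).1 h1
  have hC : centralizer (Cfsg.pCore 2 ↥N : Set ↥N) ≤ Cfsg.pCore 2 ↥N :=
    Cores.centralizer_pCore_le Cores.isPSolvable_of_isSolvable hON
  set Q := (Cfsg.pCore 2 ↥N).map N.subtype with hQdef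
  haveI hQn : Q.Normal := by
    haveI : (Cfsg.pCore 2 ↥N).Characteristic := Cores.pCore_characteristic
    infer_instance
  have hQp : IsPGroup 2 Q := Cores.pCore_isPGroup.map _
  have hQ1 : Q ≠ ⊥ := by
    intro e
    have e' := (Subgroup.map_eq_bot_iff_of_injective _ N.subtype_injective).1 e
    rw [e'] at hC
    refine hN ((Subgroup.eq_bot_iff_forall _).2 fun y hy => ?_)
    have : (⟨y, hy⟩ : ↥N) ∈ (⊥ : Subgroup ↥N) := hC (mem_centralizer_iff.2 fun v hv => by
      rw [SetLike.mem_coe, mem_bot] at hv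
      rw [hv, one_mul, mul_one])
    exact congrArg Subtype.val (mem_bot.1 this)
  let ρ : Y →* MulAut ↥Q := MulAut.conjNormal
  have hsol : Group.IsSolvable ρ.range := by
    by_cases hK : IsKleinFour ↥Q
    · let ψ : MulAut ↥Q →* Equiv.Perm ↥Q :=
        { toFun := fun f => f.toEquiv
          map_one' := rfl
          map_mul' := fun _ _ => rfl }
      haveI := H63.PerfectAction.isSolvable_perm_le_four (α := ↥Q) hK.card_four.le
      exact Group.isSolvable_of_isSolvable_injective (f := ψ.comp ρ.range.subtype)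
        (fun a b hab => Subtype.ext (MulEquiv.ext fun v => DFunLike.congr_fun hab v))
    · have hp : IsPGroup 2 ρ.range := by
        rintro ⟨_, y, rfl⟩
        obtain ⟨k, m, hm, hym⟩ := Nat.exists_eq_two_pow_mul_odd (orderOf_pos y).ne'
        refine ⟨k, Subtype.ext ?_⟩
        have ho : orderOf (y ^ 2 ^ k) = m := by
          rw [orderOf_pow' y (by positivity), hym, Nat.gcd_mul_right_left,
            Nat.mul_div_cancel_left _ (by positivity)]
        have hmem := mem_centralizer_of_odd h hQp hK (g := y ^ 2 ^ k)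
          (by rw [normalizer_eq_top]; exact mem_top _) (ho ▸ Nat.coprime_two_right.2 hm)
        show (ρ y) ^ 2 ^ k = 1
        rw [← map_pow]
        refine MulEquiv.ext fun q => Subtype.ext ?_
        show y ^ 2 ^ k * (q : Y) * (y ^ 2 ^ k)⁻¹ = q
        rw [← mem_centralizer_iff.1 hmem q q.2, mul_inv_cancel_right]
      haveI := hp.isNilpotent
      infer_instance
  have hcent : ∀ g : Y, ∀ q ∈ Q, Commute g q := fun g q hq => by
    have := congrArg Subtype.val (DFunLike.congr_fun (eq_one_of_perfect ρ hsol g) (⟨q, hq⟩ : ↥Q))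
    exact mul_inv_eq_iff_eq_mul.1 this
  have hdvd : 2 ∣ Nat.card Q := by
    obtain ⟨k, hk⟩ := hQp.exists_card_eq
    rcases k with _ | k
    · exact absurd (Subgroup.card_eq_one.1 (by simpa using hk)) hQ1
    · exact hk ▸ dvd_pow_self 2 k.succ_ne_zero
  obtain ⟨z, hz⟩ := exists_prime_orderOf_dvd_card' 2 hdvd
  have hz2 : (z : Y) * z = 1 := by
    rw [← Subgroup.coe_mul, ← sq, ← hz, pow_orderOf_eq_one, Subgroup.coe_one]
  have := no_central_involution h hO hz2 (fun g => hcent g z z.2)
  rw [show z = 1 from Subtype.ext this, orderOf_one] at hz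
  exact absurd hz (by norm_num)

theorem SimpleShape.eq_top [Group.IsPerfect Y] (K : Subgroup Y) [K.Normal]
    (hK : SimpleShape ↥K) (hC : centralizer (K : Set Y) = ⊥) : K = ⊤ := by
  rcases hK with ⟨F, _, _, -, -, ⟨e⟩⟩ | ⟨⟨e⟩⟩
  · exact psl_eq_top e hC
  · exact alt_eq_top_of_perfect hC e

theorem card_lt_of_ne_top {H : Subgroup Y} (hH : H ≠ ⊤) : Nat.card ↥H < Nat.card Y :=
  (Subgroup.card_le_card_group H).lt_of_ne fun e => hH (H.card_eq_iff_eq_top.1 e)

theorem centralizer_eq_bot (h : SylowDType Y) (hO : Cfsg.oddCore Y = ⊥) (K : Subgroup Y) [K.Normal]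
    (hOK : Cfsg.oddCore ↥K = ⊥) (hK : SimpleShape ↥K) : centralizer (K : Set Y) = ⊥ := by
  haveI : Fact (Nat.Prime 2) := ⟨Nat.prime_two⟩
  have hsimp := hK.isSimpleGroup
  have hnc : ¬ IsMulCommutative ↥K := by
    rcases hK with ⟨F, _, _, -, h3, ⟨e⟩⟩ | ⟨⟨e⟩⟩
    · intro hc
      haveI : IsMulCommutative (PSLn 2 F) := ⟨⟨fun a b => e.symm.injective (by
        rw [map_mul, map_mul]; exact hc.is_comm.comm _ _)⟩⟩
      exact H5.EvenCyclic.wm_not_normalize (F := F) 1 (by rw [pow_one]; exact (IsMulCommutative.is_comm (M := PSLn 2 F)).comm _ _)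
    · intro hc
      have hcA : ∀ a b : alternatingGroup (Fin 7), a * b = b * a := fun a b =>
        e.symm.injective (by rw [map_mul, map_mul]; exact hc.is_comm.comm _ _)
      have h1 : (⟨Equiv.swap (0 : Fin 7) 1 * Equiv.swap 1 2, Equiv.Perm.mem_alternatingGroup.2 (by decide)⟩ : alternatingGroup (Fin 7)) *
          ⟨Equiv.swap (2 : Fin 7) 3 * Equiv.swap 3 4, Equiv.Perm.mem_alternatingGroup.2 (by decide)⟩ =
          ⟨Equiv.swap (2 : Fin 7) 3 * Equiv.swap 3 4, Equiv.Perm.mem_alternatingGroup.2 (by decide)⟩ *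
          ⟨Equiv.swap (0 : Fin 7) 1 * Equiv.swap 1 2, Equiv.Perm.mem_alternatingGroup.2 (by decide)⟩ :=
        hcA _ _
      have h2 := congrArg (fun π : alternatingGroup (Fin 7) => (π : Equiv.Perm (Fin 7)) 2) h1
      revert h2
      decide
  set C := centralizer (K : Set Y) with hC
  have hd : Disjoint K C := by
    rw [disjoint_iff, eq_bot_iff]
    intro x hx
    rcases hsimp.eq_bot_or_eq_top_of_normal (center ↥K) inferInstance with hz | hz
    · have : (⟨x, hx.1⟩ : K) ∈ center ↥K := mem_center_iff.2 fun y =>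
        Subtype.ext (mem_centralizer_iff.1 hx.2 y y.2)
      rw [hz, mem_bot] at this
      exact mem_bot.2 (congrArg Subtype.val this)
    · exact absurd ⟨⟨fun a b => (mem_center_iff.1 (hz ▸ mem_top b) a)⟩⟩ hnc
  have hc : ∀ x ∈ K, ∀ y ∈ C, Commute x y := fun x hx y hy => mem_centralizer_iff.1 hy x hx
  obtain ⟨V, hV, hVK⟩ : ∃ V : Subgroup Y, IsKleinFour ↥V ∧ V ≤ K := by
    obtain ⟨T⟩ : Nonempty (Sylow 2 ↥K) := inferInstance
    rcases (h.subgroup K) T with hcy | ⟨n, hn, ⟨e⟩⟩
    · haveI := hcy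
      have h2 := isPGroup_of_complement hOK (hasNormalPComplement_of_cyclic T)
      haveI : Nontrivial ↥K := hsimp.toNontrivial
      haveI := h2.center_nontrivial
      rcases hsimp.eq_bot_or_eq_top_of_normal (center ↥K) inferInstance with hz | hz
      · exact absurd hz ((Subgroup.nontrivial_iff_ne_bot _).1 inferInstance)
      · exact absurd ⟨⟨fun a b => (mem_center_iff.1 (hz ▸ mem_top b) a)⟩⟩ hnc
    · obtain ⟨l, c, s, -, -, hd'⟩ := H39.exists_dGen (T : Subgroup ↥K) T.isPGroup' hn e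
      obtain ⟨U, hU, -, -⟩ := hd'.klein_exists 0
      have ev := equivMapOfInjective U K.subtype K.subtype_injective
      exact ⟨U.map K.subtype, ⟨(Nat.card_congr ev.symm.toEquiv).trans hU.card_four,
        (Monoid.exponent_eq_of_mulEquiv ev.symm).trans hU.exponent_two⟩, map_subtype_le U⟩
  refine le_bot_iff.1 (hO ▸ Cores.le_oddCore (N := C) ?_)
  by_contra he
  obtain ⟨z, hz⟩ := exists_prime_orderOf_dvd_card' (G := ↥C) 2 (Nat.not_odd_iff_even.1 he).two_dvd
  have hz2 : (z : Y) * z = 1 := by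
    rw [← Subgroup.coe_mul, ← sq, ← hz, pow_orderOf_eq_one, Subgroup.coe_one]
  have := eq_one_of_centralizes_four h hd hc hV hVK z.2 hz2
  rw [show z = 1 from Subtype.ext this, orderOf_one] at hz
  omega

/-- Step 8: the simple case gives the shape of every perfect core-free dihedral-type group. -/
theorem perfectHyp_of_simple (hs : SimpleCase.{u}) :
    ∀ (Y : Type u) [Group Y] [Finite Y], SylowDType Y → PerfectHyp Y := by
  suffices key : ∀ n : ℕ, ∀ (Y : Type u) [Group Y] [Finite Y], Nat.card Y ≤ n → SylowDType Y →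
      PerfectHyp Y from fun Y _ _ h => key _ Y le_rfl h
  intro n
  induction n with
  | zero => intro Y _ _ hn; exact absurd (Nat.le_zero.1 hn) Nat.card_pos.ne'
  | succ n ih =>
  intro Y _ _ hn h
  -- proper subgroups
  have hproper : ∀ H : Subgroup Y, H ≠ ⊤ → PerfectHyp ↥H := fun H hH =>
    ih ↥H (Nat.le_of_lt_succ ((card_lt_of_ne_top hH).trans_le hn)) (h.subgroup H)
  intro P hP hP1 hPO
  by_cases hPtop : P ≠ ⊤
  · haveI := hP
    have hO' : Cfsg.oddCore ↥(⊤ : Subgroup ↥P) = ⊥ := by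
      show Cfsg.pPrimeCore 2 _ = ⊥
      rw [← Cores.pPrimeCore_map_mulEquiv (p := 2) (Subgroup.topEquiv (G := ↥P)).symm,
        show Cfsg.pPrimeCore 2 ↥P = ⊥ from hPO, Subgroup.map_bot]
    haveI : Nontrivial ↥P := (Subgroup.nontrivial_iff_ne_bot P).2 hP1
    exact (hproper P hPtop ⊤ inferInstance top_ne_bot hO').congr Subgroup.topEquiv
  push Not at hPtop
  subst hPtop
  refine SimpleShape.congr ?_ Subgroup.topEquiv.symm
  haveI : Group.IsPerfect Y := Group.IsPerfect.top_iff.1 hP
  have hO : Cfsg.oddCore Y = ⊥ := by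
    show Cfsg.pPrimeCore 2 _ = ⊥
    rw [← Cores.pPrimeCore_map_mulEquiv (p := 2) (Subgroup.topEquiv (G := Y)),
      show Cfsg.pPrimeCore 2 ↥(⊤ : Subgroup Y) = ⊥ from hPO, Subgroup.map_bot]
  haveI : Nontrivial Y := by
    obtain ⟨x, hx, hx1⟩ := (⊤ : Subgroup Y).bot_or_exists_ne_one.resolve_left hP1
    exact ⟨⟨x, 1, hx1⟩⟩
  have hsimple : IsSimpleGroup Y := ⟨fun N hN => by
    by_contra! hcon
    obtain ⟨hN1, hNtop⟩ := hcon
    by_cases hsol : Group.IsSolvable ↥N
    · exact hN1 (solvable_normal_eq_bot h hO N)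
    obtain ⟨K, hKN, hKn, hK1, hKp⟩ : ∃ K : Subgroup Y, K ≤ N ∧ K.Normal ∧ K ≠ ⊥ ∧ ⁅K, K⁆ = K :=
      exists_perfect_below N hsol
    have hKtop : K ≠ ⊤ := fun e => hNtop (eq_top_iff.2 (e ▸ hKN))
    haveI : Group.IsPerfect ↥K := ⟨by
      apply Subgroup.map_injective K.subtype_injective
      rw [commutator_def, Subgroup.map_commutator, ← MonoidHom.range_eq_map, Subgroup.range_subtype, hKp]⟩
    haveI := hKn
    have hKO : Cfsg.oddCore ↥K = ⊥ := by
      have h1 := Cores.map_pPrimeCore_le_of_normal (p := 2) K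
      rw [show Cfsg.pPrimeCore 2 Y = ⊥ from hO, le_bot_iff] at h1
      exact (Subgroup.map_eq_bot_iff_of_injective _ K.subtype_injective).1 h1
    haveI : Nontrivial ↥K := (Subgroup.nontrivial_iff_ne_bot K).2 hK1
    have hsh : SimpleShape ↥K := (hproper K hKtop ⊤ inferInstance top_ne_bot (by
      show Cfsg.pPrimeCore 2 _ = ⊥
      rw [← Cores.pPrimeCore_map_mulEquiv (p := 2) (Subgroup.topEquiv (G := ↥K)).symm,
        show Cfsg.pPrimeCore 2 ↥K = ⊥ from hKO, Subgroup.map_bot])).congr Subgroup.topEquiv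
    exact hKtop (SimpleShape.eq_top K hsh (centralizer_eq_bot h hO K hKO hsh))⟩
  obtain ⟨S⟩ : Nonempty (Sylow 2 Y) := inferInstance
  rcases h S with hc | ⟨m, hm, he⟩
  · haveI := hc
    exact absurd (isPGroup_of_complement hO (hasNormalPComplement_of_cyclic S))
      (fun hp => Group.IsPerfect.not_isSolvable Y (by
        haveI : Fact (Nat.Prime 2) := ⟨Nat.prime_two⟩
        haveI := hp.isNilpotent; infer_instance))
  · exact hs Y hsimple S m hm he hproper fun Z _ _ hZ hZD => ih Z (Nat.le_of_lt_succ (hZ.trans_le hn)) hZD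

/-- S0483 from the simple case. -/
theorem gw_of_simple (hs : SimpleCase.{u}) {X : Type u} [Group X] [Finite X] [Group.IsPerfect X]
    (S : Sylow 2 X) (n : ℕ) (hn : 2 ≤ n) (hS : Nonempty ((S : Subgroup X) ≃* DihedralGroup n)) :
    (∃ (F : Type) (_ : Field F) (_ : Fintype F), Odd (Fintype.card F) ∧ 3 < Fintype.card F ∧
        Nonempty (X ⧸ Cfsg.oddCore X ≃* Matrix.ProjectiveSpecialLinearGroup (Fin 2) F)) ∨
      Nonempty (X ⧸ Cfsg.oddCore X ≃* alternatingGroup (Fin 7)) := by
  have hD : SylowDType (X ⧸ Cfsg.oddCore X) :=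
    (sylowDType_of_dihedral S hn hS).quotient _ Cores.odd_card_oddCore
  have hO : Cfsg.oddCore (X ⧸ Cfsg.oddCore X) = ⊥ := Cores.pPrimeCore_quotient_pPrimeCore
  haveI : Group.IsPerfect (X ⧸ Cfsg.oddCore X) :=
    Group.IsPerfect.instQuotientSubgroup
  have hne : (⊤ : Subgroup (X ⧸ Cfsg.oddCore X)) ≠ ⊥ := by
    intro e
    haveI : Subsingleton (X ⧸ Cfsg.oddCore X) := Subgroup.subsingleton_iff.1 (subsingleton_of_bot_eq_top e.symm)
    have htop : Cfsg.oddCore X = ⊤ := eq_top_iff.2 fun x _ =>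
      (QuotientGroup.eq_one_iff x).1 (Subsingleton.elim _ _)
    have hodd : Odd (Nat.card X) := by
      have := Cores.odd_card_oddCore (G := X)
      rwa [htop, Subgroup.card_top] at this
    haveI : NeZero n := ⟨by omega⟩
    have h2 : 2 ∣ Nat.card X := by
      refine dvd_trans ?_ (Subgroup.card_subgroup_dvd_card (S : Subgroup X))
      rw [Nat.card_congr hS.some.toEquiv, DihedralGroup.nat_card]
      exact dvd_mul_right 2 n
    exact Nat.not_odd_iff_even.2 (even_iff_two_dvd.2 h2) hodd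
  have hsh := perfectHyp_of_simple hs _ hD ⊤ inferInstance hne (by
    show Cfsg.pPrimeCore 2 _ = ⊥
    rw [← Cores.pPrimeCore_map_mulEquiv (p := 2) (Subgroup.topEquiv (G := X ⧸ Cfsg.oddCore X)).symm,
      show Cfsg.pPrimeCore 2 (X ⧸ Cfsg.oddCore X) = ⊥ from hO, Subgroup.map_bot])
  exact hsh.congr Subgroup.topEquiv

end Cfsg.Agent.H4.GW
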