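import Cfsg.Agent.H82.GW.Setting
import Cfsg.Agent.H36.GW.Layer

/-!
# Gorenstein–Walter: basic facts of a configuration

One class of involutions, the fusing elements of both four groups, and the exchange of `s` and
`c * s`.
-/

set_option autoImplicit false

namespace Cfsg.Agent.H4.GW

open Subgroup Cfsg.Agent Cfsg.Agent.GW

universe u

variable {G : Type u} [Group G] {S : Sylow 2 G} {l : ℕ} {c s : G}

/-- The generating involution may be replaced by the other one. -/
theorem dGen_swap {T : Subgroup G} (h : H39.DGen T l c s) : H39.DGen T l c (c * s) where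
  lpos := h.lpos
  mem_c := h.mem_c
  mem_s := mul_mem h.mem_c h.mem_s
  oc := h.oc
  os := by simpa using h.orderOf_out 1
  inv := by simpa using h.out_conj 1 1
  out := by simpa using h.out_not_mem 1
  cases := fun g hg => by
    have hcs : c * s = s * c⁻¹ := by
      have h0 := h.out_conj 0 (-1)
      simp only [zpow_zero, one_mul, neg_neg, zpow_one, zpow_neg] at h0
      exact (mul_inv_eq_iff_eq_mul.1 h0).symm
    refine (h.cases g hg).imp_right fun hgs => ?_
    rw [hcs, ← mul_assoc]
    exact mul_mem hgs (inv_mem (mem_zpowers c))

/-- A configuration with the other generating involution. -/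
theorem cfg_swap (h : Cfg S l c s) : Cfg S l c (c * s) :=
  { h with gen := dGen_swap h.gen }

/-- A configuration has no subgroup of index two. -/
theorem index_ne_two [Finite G] (h : Cfg S l c s) (H : Subgroup G) : H.index ≠ 2 := by
  intro hH
  haveI := h.simple
  rcases (normal_of_index_eq_two hH).eq_bot_or_eq_top with e | e
  · subst e
    rw [Subgroup.index_bot] at hH
    refine h.nonab ⟨⟨fun a b => ?_⟩⟩
    haveI : Fact (Nat.Prime 2) := ⟨Nat.prime_two⟩
    haveI : IsCyclic G := isCyclic_of_prime_card hH
    exact (IsCyclic.commGroup (α := G)).mul_comm a b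
  · rw [e, Subgroup.index_top] at hH
    omega

/-- All involutions are conjugate to the central one. -/
theorem isConj_center [Finite G] (h : Cfg S l c s) {v : G} (hv : orderOf v = 2) :
    IsConj (c ^ l) v :=
  h.gen.isConj_z_of_no_index_two (index_ne_two h) hv

/-- All involutions are conjugate. -/
theorem isConj_of_orderOf [Finite G] (h : Cfg S l c s) {a b : G} (ha : orderOf a = 2)
    (hb : orderOf b = 2) : IsConj a b :=
  (isConj_center h ha).symm.trans (isConj_center h hb)

/-- The four group `⟨t, s⟩` is fused. -/
theorem exists_fuses [Finite G] (h : Cfg S l c s) : ∃ g, Fuses g (c ^ l) s :=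
  H36.GW.exists_fuses h.gen (index_ne_two h)

/-- The four group `⟨t, c * s⟩` is fused. -/
theorem exists_fuses_right [Finite G] (h : Cfg S l c s) : ∃ g, Fuses g (c ^ l) (c * s) :=
  exists_fuses (cfg_swap h)

end Cfsg.Agent.H4.GW
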