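import Cfsg.Agent.H4.GW.Basics
import Cfsg.Agent.H61.GW.OneSide
import Cfsg.Agent.H35.GW.Numeric

/-!
# Gorenstein–Walter: the centraliser and the normaliser of a four group

The centraliser of `⟨t, s⟩` has order `4 |D|`, the centraliser of `t` has order `4 l |O(C(t))|`,
and the four group is fused inside the normaliser of a Sylow subgroup of `D`.
-/

set_option autoImplicit false
set_option linter.style.haveILetI false

namespace Cfsg.Agent.H4.GW

open Subgroup Cfsg.Agent Cfsg.Agent.GW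
open Cfsg.Agent.H61.GW (coreAt_le odd_coreAt conj_mem_coreAt mem_coreAt_of_odd centralizer_le_sup)

universe u

variable {G : Type u} [Group G] [Finite G] {S : Sylow 2 G} {l : ℕ} {c s : G}

/-- An element of odd order centralising the four group lies in `D`. -/
theorem mem_pairCore_of_odd (hg : H39.DGen (S : Subgroup G) l c s) {x : G}
    (ht : Commute x (c ^ l)) (hs : Commute x s) (ho : Odd (orderOf x)) :
    x ∈ pairCore (c ^ l) s :=
  ⟨mem_coreAt_of_odd hg (mem_centralizer_singleton_iff.2 ht.eq) ho,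
    mem_centralizer_singleton_iff.2 hs.eq⟩

omit [Finite G] in
theorem commute_of_mem_pairCore {x : G} (hx : x ∈ pairCore (c ^ l) s) :
    Commute x (c ^ l) ∧ Commute x s :=
  ⟨mem_centralizer_singleton_iff.1 (coreAt_le _ hx.1), mem_centralizer_singleton_iff.1 hx.2⟩

theorem odd_orderOf_of_mem_pairCore {x : G} (hx : x ∈ pairCore (c ^ l) s) : Odd (orderOf x) :=
  (odd_coreAt (c ^ l)).of_dvd_nat (orderOf_dvd_natCard _ hx.1)

/-- A fusing element normalises `D`. -/
theorem conj_mem_pairCore (hg : H39.DGen (S : Subgroup G) l c s) {g : G}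
    (hf : Fuses g (c ^ l) s) {x : G} (hx : x ∈ pairCore (c ^ l) s) :
    g * x * g⁻¹ ∈ pairCore (c ^ l) s := by
  obtain ⟨hxt, hxs⟩ := commute_of_mem_pairCore hx
  have hs' : Commute (g * x * g⁻¹) s := by
    rw [← hf.1]
    exact (Commute.conj_iff g).2 hxt
  have hts : Commute (g * x * g⁻¹) (c ^ l * s) := by
    rw [← hf.2]
    exact (Commute.conj_iff g).2 hxs
  refine mem_pairCore_of_odd hg ?_ hs' ?_
  · have := hts.mul_right hs'.inv_right
    rwa [mul_inv_cancel_right] at this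
  · rw [← MulAut.conj_apply, MulEquiv.orderOf_eq]
    exact odd_orderOf_of_mem_pairCore hx

/-- The fusing element may be chosen to normalise any given Sylow subgroup of `D`. -/
theorem exists_fuses_sylow (h : Cfg S l c s) {p : ℕ} [Fact p.Prime]
    (R : Sylow p ↥(pairCore (c ^ l) s)) :
    ∃ g, Fuses g (c ^ l) s ∧
      g ∈ normalizer (((R : Subgroup ↥(pairCore (c ^ l) s)).map
        (pairCore (c ^ l) s).subtype : Subgroup G) : Set G) := by
  obtain ⟨g₀, hg₀⟩ := exists_fuses h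
  let φ : ↥(pairCore (c ^ l) s) →* ↥(pairCore (c ^ l) s) :=
    ((MulAut.conj g₀).toMonoidHom.comp (pairCore (c ^ l) s).subtype).codRestrict (pairCore (c ^ l) s) fun x => conj_mem_pairCore h.gen hg₀ x.2
  have hφ : ∀ x : (pairCore (c ^ l) s), (φ x : G) = g₀ * (x : G) * g₀⁻¹ := fun x => rfl
  have hinj : Function.Injective φ := fun x y e => Subtype.ext (mul_left_cancel (mul_right_cancel
    ((hφ x).symm.trans ((congrArg Subtype.val e).trans (hφ y)))))
  -- the image of `R` is again a Sylow subgroup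
  set R' : Subgroup (pairCore (c ^ l) s) := (R : Subgroup (pairCore (c ^ l) s)).map φ
  have hR' : Nat.card R' = Nat.card (R : Subgroup (pairCore (c ^ l) s)) :=
    Subgroup.card_map_of_injective hinj
  obtain ⟨d, hd⟩ := MulAction.exists_smul_eq (pairCore (c ^ l) s)
    (Sylow.ofCard R' (hR'.trans R.card_eq_multiplicity)) R
  have hd' : R'.map (MulAut.conj d).toMonoidHom = (R : Subgroup (pairCore (c ^ l) s)) := by
    rw [← hd, Sylow.coe_subgroup_smul]
    rfl
  refine ⟨(d : G) * g₀, ?_, ?_⟩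
  · obtain ⟨hdt, hds⟩ := commute_of_mem_pairCore d.2
    constructor
    · rw [mul_inv_rev, show (d : G) * g₀ * c ^ l * (g₀⁻¹ * (d : G)⁻¹) =
        (d : G) * (g₀ * c ^ l * g₀⁻¹) * (d : G)⁻¹ by group, hg₀.1]
      exact mul_inv_eq_iff_eq_mul.2 hds.eq
    · rw [mul_inv_rev, show (d : G) * g₀ * s * (g₀⁻¹ * (d : G)⁻¹) =
        (d : G) * (g₀ * s * g₀⁻¹) * (d : G)⁻¹ by group, hg₀.2]
      exact mul_inv_eq_iff_eq_mul.2 (hdt.mul_right hds).eq
  · refine mem_normalizer_fintype fun x hx => ?_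
    obtain ⟨r, hr, rfl⟩ := hx
    have h1 : (MulAut.conj d).toMonoidHom (φ r) ∈ (R : Subgroup (pairCore (c ^ l) s)) :=
      hd' ▸ mem_map_of_mem _ (mem_map_of_mem φ hr)
    refine ⟨_, h1, ?_⟩
    show (d : G) * (g₀ * (r : G) * g₀⁻¹) * (d : G)⁻¹ = _
    rw [mul_inv_rev, Subgroup.subtype_apply]
    group

/-- `|C(t)| = 4 l |O(C(t))|`. -/
theorem card_centralizer_center (hg : H39.DGen (S : Subgroup G) l c s) :
    Nat.card (centralizer ({c ^ l} : Set G)) = 4 * l * Nat.card (coreAt (c ^ l)) := by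
  have hHS := H61.GW.sylow_le_centralizer hg
  have hS : Nat.card (S : Subgroup G) = 4 * l := by
    rw [Nat.card_congr (H61.GW.nonempty_dihedral hg).some.toEquiv, DihedralGroup.nat_card]
    ring
  have hdisj : Disjoint (coreAt (c ^ l)) (S : Subgroup G) := by
    rw [Subgroup.disjoint_def]
    intro x hx hx'
    obtain ⟨n, hn⟩ := IsPGroup.iff_orderOf.1 S.isPGroup' ⟨x, hx'⟩
    have h1 : Odd (orderOf x) := (odd_coreAt (c ^ l)).of_dvd_nat (orderOf_dvd_natCard _ hx)
    rw [← Subgroup.orderOf_coe] at hn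
    rcases n with _ | n
    · rwa [pow_zero, orderOf_eq_one_iff] at hn
    · rw [hn] at h1
      exact absurd h1 (Nat.not_odd_iff_even.2 (even_two.pow_of_ne_zero (Nat.succ_ne_zero n)))
  have hnorm : (S : Subgroup G) ≤ normalizer (coreAt (c ^ l) : Set G) := fun x hx =>
    mem_normalizer_fintype fun y hy => conj_mem_coreAt (hHS hx) hy
  rw [← hS, mul_comm, ← Nat.card_prod]
  refine (Nat.card_congr (Equiv.ofBijective
    (fun p : ↥(coreAt (c ^ l)) × (S : Subgroup G) =>
      (⟨(p.1 : G) * p.2, mul_mem (coreAt_le _ p.1.2) (hHS p.2.2)⟩ : centralizer ({c ^ l} : Set G)))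
    ⟨fun p q e => ?_, fun x => ?_⟩)).symm
  · exact Subgroup.mul_injective_of_disjoint hdisj (congrArg Subtype.val e)
  · have hx := centralizer_le_sup hg x.2
    rw [← SetLike.mem_coe, Subgroup.coe_mul_of_right_le_normalizer_left _ _ hnorm] at hx
    obtain ⟨o, ho, a, ha, he⟩ := hx
    exact ⟨(⟨o, ho⟩, ⟨a, ha⟩), Subtype.ext he⟩

/-- The centraliser of `⟨t, s⟩` in the Sylow subgroup is the four group. -/
theorem mem_four_of_commute (hg : H39.DGen (S : Subgroup G) l c s) {x : G}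
    (hx : x ∈ (S : Subgroup G)) (hxs : Commute x s) :
    x = 1 ∨ x = c ^ l ∨ x = s ∨ x = c ^ l * s := by
  have key : ∀ i : ℤ, Commute (c ^ i) s → c ^ i = 1 ∨ c ^ i = c ^ l := fun i hi => by
    refine hg.sq_one_cases (zpow_mem (mem_zpowers c) i) ?_
    have e := hg.out_conj 0 i
    rw [zpow_zero, one_mul, ← hi.eq, mul_inv_cancel_right, zpow_neg] at e
    exact eq_inv_iff_mul_eq_one.1 e
  by_cases hc : x ∈ zpowers c
  · obtain ⟨i, rfl⟩ := hc
    rcases key i hxs with e | e
    · exact Or.inl e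
    · exact Or.inr (Or.inl e)
  · obtain ⟨i, rfl⟩ := hg.out_form hx hc
    have hi : Commute (c ^ i) s := by
      have := hxs.mul_left (Commute.refl s).inv_left
      rwa [mul_inv_cancel_right] at this
    rcases key i hi with e | e
    · exact Or.inr (Or.inr (Or.inl (by rw [e, one_mul])))
    · exact Or.inr (Or.inr (Or.inr (by rw [e])))

/-- `|C(⟨t, s⟩)| = 4 |D|`. -/
theorem card_centralizer_four (hg : H39.DGen (S : Subgroup G) l c s) :
    Nat.card (centralizer ({c ^ l, s} : Set G)) = 4 * Nat.card (pairCore (c ^ l) s) := by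
  classical
  have hHS := H61.GW.sylow_le_centralizer hg
  have hss : s * s = 1 := H39.mul_self_of_orderOf_eq_two hg.os
  have hzz : c ^ l * c ^ l = 1 := H39.mul_self_of_orderOf_eq_two hg.z_order
  have hzs : c ^ l * s = s * c ^ l := (hg.z_central hg.mem_s).symm
  have hzne : c ^ l ≠ s := fun e => hg.out (e ▸ pow_mem (mem_zpowers c) l)
  obtain ⟨T, hT, hTm⟩ := H39.klein_mk hg.z_order hg.os hzne hzs
  have hmemC : ∀ g : G, g ∈ centralizer ({c ^ l, s} : Set G) ↔
      Commute g (c ^ l) ∧ Commute g s := by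
    intro g
    rw [mem_centralizer_iff]
    constructor
    · intro h
      exact ⟨(h _ (Set.mem_insert _ _)).symm, (h _ (Set.mem_insert_of_mem _ rfl)).symm⟩
    · rintro ⟨h1, h2⟩ v (rfl | rfl)
      exacts [h1.eq.symm, h2.eq.symm]
  have hTC : T ≤ centralizer ({c ^ l, s} : Set G) := fun g hg' => by
    rw [hmemC]
    rcases (hTm g).1 hg' with rfl | rfl | rfl | rfl
    · exact ⟨Commute.one_left _, Commute.one_left _⟩
    · exact ⟨Commute.refl _, hzs⟩
    · exact ⟨hzs.symm, Commute.refl _⟩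
    · exact ⟨(Commute.refl _).mul_left (Commute.symm hzs), (show Commute (c ^ l) s from hzs).mul_left (Commute.refl s)⟩
  rw [← hT.card_four, mul_comm, ← Nat.card_prod]
  refine (Nat.card_congr (Equiv.ofBijective
    (fun p : ↥(pairCore (c ^ l) s) × T => (⟨(p.1 : G) * p.2, mul_mem
      ((hmemC _).2 (commute_of_mem_pairCore p.1.2)) (hTC p.2.2)⟩ :
        centralizer ({c ^ l, s} : Set G)))
    ⟨fun p q e => ?_, fun x => ?_⟩)).symm
  · refine Subgroup.mul_injective_of_disjoint ?_ (congrArg Subtype.val e)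
    rw [Subgroup.disjoint_def]
    intro g hgD hgT
    by_contra h1
    have h2 := H39.orderOf_eq_two_of_mul_self (H39.klein_mul_self hT hgT) h1
    have h3 := odd_orderOf_of_mem_pairCore hgD
    rw [h2] at h3
    exact absurd h3 (by decide)
  · obtain ⟨hxt, hxs⟩ := (hmemC _).1 x.2
    have hnorm : (S : Subgroup G) ≤ normalizer (coreAt (c ^ l) : Set G) := fun y hy =>
      mem_normalizer_fintype fun z hz => conj_mem_coreAt (hHS hy) hz
    have hx := centralizer_le_sup hg (mem_centralizer_singleton_iff.2 hxt.eq)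
    rw [← SetLike.mem_coe, Subgroup.coe_mul_of_right_le_normalizer_left _ _ hnorm] at hx
    obtain ⟨o, ho, a, ha, he⟩ := hx
    replace he : o * a = (x : G) := he
    -- the part in the Sylow subgroup commutes with `s` modulo the core
    have h1 : (o⁻¹ * (s * o * s⁻¹)) = a * s * a⁻¹ * s⁻¹ := by
      have e1 : o * a * s = s * (o * a) := by rw [he]; exact hxs.eq
      calc o⁻¹ * (s * o * s⁻¹) = o⁻¹ * (s * (o * a)) * a⁻¹ * s⁻¹ := by group
        _ = o⁻¹ * (o * a * s) * a⁻¹ * s⁻¹ := by rw [e1]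
        _ = a * s * a⁻¹ * s⁻¹ := by group
    have h2 : o⁻¹ * (s * o * s⁻¹) ∈ coreAt (c ^ l) :=
      mul_mem (inv_mem ho) (conj_mem_coreAt (hHS hg.mem_s) ho)
    have h3 : a * s * a⁻¹ * s⁻¹ ∈ (S : Subgroup G) :=
      mul_mem (mul_mem (mul_mem ha hg.mem_s) (inv_mem ha)) (inv_mem hg.mem_s)
    have h4 : a * s * a⁻¹ * s⁻¹ = 1 := by
      obtain ⟨n, hn⟩ := IsPGroup.iff_orderOf.1 S.isPGroup' ⟨_, h3⟩
      rw [← Subgroup.orderOf_coe] at hn
      have h5 : Odd (orderOf (a * s * a⁻¹ * s⁻¹)) :=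
        (odd_coreAt (c ^ l)).of_dvd_nat (orderOf_dvd_natCard _ (h1 ▸ h2))
      rcases n with _ | n
      · rwa [pow_zero, orderOf_eq_one_iff] at hn
      · rw [hn] at h5
        exact absurd h5 (Nat.not_odd_iff_even.2 (even_two.pow_of_ne_zero (Nat.succ_ne_zero n)))
    have has : Commute a s := mul_inv_eq_iff_eq_mul.1 (mul_inv_eq_one.1 h4)
    have haT : a ∈ T := (hTm a).2 (mem_four_of_commute hg ha has)
    have hos : Commute o s := by
      have h5 := hxs.mul_left has.inv_left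
      rwa [← he, mul_inv_cancel_right] at h5
    exact ⟨(⟨o, ho, mem_centralizer_singleton_iff.2 hos.eq⟩, ⟨a, haT⟩), Subtype.ext he⟩

/-- The order formula in `o = |O(C(t))|`, `d = |D|` and `d' = |D'|`. -/
theorem exists_order_formula (h : Cfg S l c s) (hl : 2 ≤ l) :
    ∃ (x : ℕ) (δ : ℤ), (δ = 1 ∨ δ = -1) ∧ 0 < x ∧ (x : ℤ) ≠ δ ∧ (4 * l : ℤ) ∣ (x : ℤ) - δ ∧
      (Nat.card G : ℚ) = H35.GW.ratio x δ *
        (8 * (l : ℚ) ^ 3 * (Nat.card (coreAt (c ^ l)) : ℚ) ^ 3 *
          (1 / (Nat.card (pairCore (c ^ l) s) : ℚ) +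
            1 / (Nat.card (pairCore (c ^ l) (c * s)) : ℚ)) ^ 2) := by
  obtain ⟨x, δ, hδ, hx, hne, hdvd, he⟩ :=
    H35.GW.exists_order_formula h.gen hl fun a b => isConj_of_orderOf h
  have hS : Nat.card (S : Subgroup G) = 4 * l := by
    rw [Nat.card_congr (H61.GW.nonempty_dihedral h.gen).some.toEquiv, DihedralGroup.nat_card]
    ring
  refine ⟨x, δ, hδ, hx, hne, by rw [hS] at hdvd; exact_mod_cast hdvd, ?_⟩
  rw [he, H35.GW.localTerm, card_centralizer_center h.gen, card_centralizer_four h.gen,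
    card_centralizer_four (dGen_swap h.gen)]
  push_cast
  ring

end Cfsg.Agent.H4.GW
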