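import Cfsg.Agent.H4.GW.Basics
import Cfsg.Agent.H4.GW.Reduction
import Cfsg.Agent.H61.GW.OneSide

/-!
# Gorenstein–Walter: assembly of the simple case from the steps
-/

set_option autoImplicit false

namespace Cfsg.Agent.H4.GW

open Subgroup Cfsg.Agent Cfsg.Agent.GW

universe u

/-- A configuration has a known shape, given the steps for its group. -/
theorem shape_of_steps {G : Type u} [Group G] [Finite G] (hOver : OverStep (G := G))
    (hMax : MaxStep (G := G)) (hTwo : TwoClassStep (G := G)) (hAlt : AltStep (G := G))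
    {S : Sylow 2 G} {l : ℕ} {c s : G} (h : Cfg S l c s) : H63.GW.SimpleShape G := by
  rcases hOver S l c s h with hO | hmax | ⟨M, hM⟩ | ⟨M, hM⟩
  · exact H61.GW.shape_of_core_bot h hO
  · by_cases hD : pairCore (c ^ l) s = ⊥
    · exact H61.GW.shape_of_no_fixed h hmax hD
        (H61.GW.pairCore_right_eq_bot h hmax hD (exists_fuses_right h))
    · by_cases hD' : pairCore (c ^ l) (c * s) = ⊥
      · exact absurd (H61.GW.pairCore_left_eq_bot h hmax hD' (exists_fuses h)) hD
      · exact (hMax S l c s h hmax hD hD').elim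
  · exact Or.inr (hAlt S l c s h M hM (hTwo S l c s h M hM))
  · exact Or.inr (hAlt S l c (c * s) (cfg_swap h) M hM (hTwo S l c (c * s) (cfg_swap h) M hM))

/-- The simple case from the steps. -/
theorem simpleCase_of_steps
    (hOver : ∀ (G : Type u) [Group G] [Finite G], OverStep (G := G))
    (hMax : ∀ (G : Type u) [Group G] [Finite G], MaxStep (G := G))
    (hTwo : ∀ (G : Type u) [Group G] [Finite G], TwoClassStep (G := G))
    (hAlt : ∀ (G : Type u) [Group G] [Finite G], AltStep (G := G)) : SimpleCase.{u} := by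
  intro G _ _ hsimp S n hn hS hproper hsmall
  obtain ⟨l, c, s, -, -, hgen⟩ := H39.exists_dGen (S : Subgroup G) S.isPGroup' hn hS.some
  refine shape_of_steps (hOver G) (hMax G) (hTwo G) (hAlt G)
    (S := S) (l := l) (c := c) (s := s) ⟨hsimp, fun hc => ?_, hgen, hproper, hsmall⟩
  haveI := hsimp
  haveI := hc
  rcases (Subgroup.zpowers s).normal_of_isMulCommutative.eq_bot_or_eq_top with e | e
  · rw [zpowers_eq_bot] at e
    have := hgen.os
    rw [e, orderOf_one] at this
    omega
  · exact hgen.out (by
      have h1 : c ∈ zpowers s := e ▸ mem_top c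
      obtain ⟨i, hi⟩ := h1
      rcases Int.even_or_odd i with ⟨j, rfl⟩ | ⟨j, rfl⟩
      · have h2 : c = 1 := by
          rw [← hi]
          exact orderOf_dvd_iff_zpow_eq_one.1 (by rw [hgen.os]; exact ⟨j, by push_cast; ring⟩)
        have := hgen.oc
        rw [h2, orderOf_one] at this
        omega
      · have h2 : c = s := by
          rw [← hi]
          show s ^ (2 * j + 1) = s
          rw [zpow_add_one, orderOf_dvd_iff_zpow_eq_one.1 (by rw [hgen.os]; exact ⟨j, by push_cast; ring⟩),
            one_mul]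
        exact h2 ▸ mem_zpowers c)

/-- Gorenstein–Walter from the steps. -/
theorem gw_of_steps
    (hOver : ∀ (G : Type u) [Group G] [Finite G], OverStep (G := G))
    (hMax : ∀ (G : Type u) [Group G] [Finite G], MaxStep (G := G))
    (hTwo : ∀ (G : Type u) [Group G] [Finite G], TwoClassStep (G := G))
    (hAlt : ∀ (G : Type u) [Group G] [Finite G], AltStep (G := G))
    {X : Type u} [Group X] [Finite X] [Group.IsPerfect X]
    (S : Sylow 2 X) (n : ℕ) (hn : 2 ≤ n) (hS : Nonempty ((S : Subgroup X) ≃* DihedralGroup n)) :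
    (∃ (F : Type) (_ : Field F) (_ : Fintype F), Odd (Fintype.card F) ∧ 3 < Fintype.card F ∧
        Nonempty (X ⧸ Cfsg.oddCore X ≃* Matrix.ProjectiveSpecialLinearGroup (Fin 2) F)) ∨
      Nonempty (X ⧸ Cfsg.oddCore X ≃* alternatingGroup (Fin 7)) :=
  gw_of_simple (simpleCase_of_steps hOver hMax hTwo hAlt) S n hn hS

end Cfsg.Agent.H4.GW
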