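import Cfsg.Agent.H4.GW.FourGroup
import Cfsg.Agent.H15.GW.Arith
import Mathlib.GroupTheory.Sylow

/-!
# Gorenstein–Walter: the arithmetic of a layer over a maximal centraliser

The order formula, the Sylow congruences of the index of `C(t)` and the order of a layer
`L₂(q₀)`, `q₀ = 2 ^ n τ + e`, contradict each other (gw_v2_L, L4 and Case I).
-/

set_option autoImplicit false
set_option linter.style.haveILetI false

namespace Cfsg.Agent.H4.GW

open Subgroup Cfsg.Agent Cfsg.Agent.GW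
open scoped Pointwise

universe u

variable {G : Type u} [Group G] [Finite G]

/-- A subgroup containing the normaliser of a Sylow `r`-subgroup has index `1` modulo `r`. -/
theorem index_modEq_one {r : ℕ} [Fact r.Prime] (R : Sylow r G) {H : Subgroup G}
    (hN : normalizer (R : Set G) ≤ H) : H.index ≡ 1 [MOD r] := by
  have hRH : (R : Subgroup G) ≤ H :=
    (le_normalizer (H := (R : Subgroup G))).trans hN
  have h1 : Nat.card (Sylow r G) ≡ 1 [MOD r] := card_sylow_modEq_one r G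
  have h2 : Nat.card (Sylow r H) ≡ 1 [MOD r] := card_sylow_modEq_one r H
  rw [Sylow.card_eq_index_normalizer R, ← relIndex_mul_index hN] at h1
  have h3 : Nat.card (Sylow r H) = (normalizer (R : Set G)).relIndex H := by
    rw [Sylow.card_eq_index_normalizer (R.subtype hRH), Subgroup.relIndex]
    congr 1
    show normalizer (((R : Subgroup G).subgroupOf H : Subgroup H) : Set H) = _
    rw [← Subgroup.subgroupOf_normalizer_eq hRH]
    rfl
  rw [← h3] at h1
  calc H.index = 1 * H.index := (one_mul _).symm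
    _ ≡ Nat.card (Sylow r H) * H.index [MOD r] := (h2.symm.mul_right _)
    _ ≡ 1 [MOD r] := h1

/-- An `r`-subgroup that is Sylow in a subgroup containing its normaliser is Sylow. -/
theorem exists_sylow_eq {r : ℕ} [Fact r.Prime] {H R : Subgroup G} (hR : IsPGroup r R)
    (hmax : ∀ P : Subgroup G, IsPGroup r P → R ≤ P → P ≤ H → P ≤ R)
    (hN : normalizer (R : Set G) ≤ H) : ∃ P : Sylow r G, (P : Subgroup G) = R := by
  obtain ⟨P, hP⟩ := hR.exists_le_sylow
  refine ⟨P, ?_⟩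
  by_contra hne
  have hlt : R.subgroupOf P < ⊤ := by
    rw [lt_top_iff_ne_top, ne_eq, subgroupOf_eq_top]
    exact fun h => hne (le_antisymm h hP)
  haveI : Group.IsNilpotent (P : Subgroup G) := P.isPGroup'.isNilpotent
  have h1 := Group.normalizerCondition_of_isNilpotent (R.subgroupOf P) hlt
  obtain ⟨x, hx, hxR⟩ := SetLike.exists_of_lt h1
  set P' : Subgroup G := (P : Subgroup G) ⊓ normalizer (R : Set G)
  have hxN : (x : G) ∈ normalizer (R : Set G) := by
    rw [← Subgroup.subgroupOf_normalizer_eq hP] at hx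
    exact hx
  exact hxR (hmax P' (P.isPGroup'.to_le inf_le_left) (le_inf hP le_normalizer)
    (inf_le_right.trans hN) ⟨x.2, hxN⟩)

/-- If a `p`-group centralising `t` centralises no other conjugate of `t`, then the centraliser
of `t` has index `1` modulo `p`. -/
theorem index_modEq_one_of_fixed {p : ℕ} [Fact p.Prime] {A : Subgroup G} (hA : IsPGroup p A) {t : G}
    (hAt : ∀ a ∈ A, Commute a t)
    (huniq : ∀ g : G, (∀ a ∈ A, Commute a (g * t * g⁻¹)) → g * t * g⁻¹ = t) :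
    (centralizer ({t} : Set G)).index ≡ 1 [MOD p] := by
  set C := centralizer ({t} : Set G)
  have hfix : ∀ (a : A) (g : G), (a : G) • (g : G ⧸ C) = g ↔ Commute (a : G) (g * t * g⁻¹) := by
    intro a g
    rw [MulAction.Quotient.smul_mk, eq_comm, QuotientGroup.eq, smul_eq_mul,
      mem_centralizer_singleton_iff]
    constructor
    · intro h
      calc (a : G) * (g * t * g⁻¹) = g * (g⁻¹ * ((a : G) * g) * t) * g⁻¹ := by group
        _ = g * (t * (g⁻¹ * ((a : G) * g))) * g⁻¹ := by rw [h]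
        _ = g * t * g⁻¹ * a := by group
    · intro h
      calc g⁻¹ * ((a : G) * g) * t = g⁻¹ * ((a : G) * (g * t * g⁻¹)) * g := by group
        _ = g⁻¹ * (g * t * g⁻¹ * a) * g := by rw [h.eq]
        _ = t * (g⁻¹ * ((a : G) * g)) := by group
  have hone : Nat.card (MulAction.fixedPoints A (G ⧸ C)) = 1 := by
    rw [Nat.card_eq_one_iff_unique]
    refine ⟨⟨fun x y => Subtype.ext ?_⟩, ⟨⟨((1 : G) : G ⧸ C), fun a => (hfix a 1).2 ?_⟩⟩⟩
    · obtain ⟨g, hg⟩ := QuotientGroup.mk_surjective x.1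
      obtain ⟨k, hk⟩ := QuotientGroup.mk_surjective y.1
      have key : ∀ (z : MulAction.fixedPoints A (G ⧸ C)) (g : G), (g : G ⧸ C) = z.1 → g ∈ C :=
        fun z g hgz => mem_centralizer_singleton_iff.2 (mul_inv_eq_iff_eq_mul.1 (huniq g fun a ha =>
          (hfix ⟨a, ha⟩ g).1 (hgz.symm ▸ z.2 ⟨a, ha⟩)))
      rw [← hg, ← hk, QuotientGroup.eq]
      exact mul_mem (inv_mem (key x g hg)) (key y k hk)
    · simpa using hAt a a.2
  have h1 := hA.card_modEq_card_fixedPoints (G ⧸ C)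
  rw [hone] at h1
  exact h1

variable {S : Sylow 2 G} {l : ℕ} {c s : G}

/-- An odd subgroup centralised by an involution has order dividing `|O(C(t))|`. -/
theorem dvd_core (h : Cfg S l c s) {v : G} (hv : orderOf v = 2) {K : Subgroup G}
    (hK : Odd (Nat.card K)) (hc : ∀ x ∈ K, Commute x v) :
    Nat.card K ∣ Nat.card (coreAt (c ^ l)) := by
  obtain ⟨g, hg⟩ := isConj_iff.1 (isConj_center h hv)
  have hle : K.map (MulAut.conj g⁻¹).toMonoidHom ≤ centralizer ({c ^ l} : Set G) := by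
    rintro _ ⟨x, hx, rfl⟩
    refine mem_centralizer_singleton_iff.2 ?_
    have := (Commute.conj_iff g⁻¹).2 (hc x hx)
    rw [show g⁻¹ * v * g⁻¹⁻¹ = c ^ l by rw [← hg]; group] at this
    exact this.eq
  have h1 := Subgroup.card_dvd_of_le hle
  rw [Subgroup.card_map_of_injective (MulAut.conj g⁻¹).injective, card_centralizer_center h.gen] at h1
  refine Nat.Coprime.dvd_of_dvd_mul_left ?_ h1
  obtain ⟨n, hn⟩ := IsPGroup.iff_card.1 S.isPGroup'
  rw [Nat.card_congr (H61.GW.nonempty_dihedral h.gen).some.toEquiv, DihedralGroup.nat_card,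
    show 2 * (2 * l) = 4 * l by ring] at hn
  rw [hn]
  exact (Nat.coprime_two_right.2 hK).pow_right n

/-- The arithmetic: the index of `C(t)` is `(J / y) ^ 2 x (x + δ) / 2`, with `x - δ = 4 l y`. -/
theorem index_split {l x y J k : ℕ} {δ : ℤ} (hl : 0 < l) (hδ : δ = 1 ∨ δ = -1)
    (hx : (x : ℤ) - δ = 4 * l * y) (hy : 0 < y)
    (hk : (k : ℤ) * ((x : ℤ) - δ) ^ 2 = 8 * (l : ℤ) ^ 2 * (J : ℤ) ^ 2 * (x * ((x : ℤ) + δ))) :
    y ∣ J ∧ 2 * (k : ℤ) = ((J / y : ℕ) : ℤ) ^ 2 * (x * ((x : ℤ) + δ)) := by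
  set e : ℤ := 2 * l * y + δ with he
  have hxe : (x : ℤ) + δ = 2 * e := by rw [he]; linarith
  have hl0 : (16 * (l : ℤ) ^ 2) ≠ 0 := by positivity
  have h1 : (k : ℤ) * (y : ℤ) ^ 2 = (J : ℤ) ^ 2 * (x * e) := by
    refine mul_left_cancel₀ hl0 ?_
    rw [hx, hxe] at hk
    linear_combination hk
  have hcop : IsCoprime ((y : ℤ) ^ 2) ((x : ℤ) * e) := by
    refine IsCoprime.pow_left (IsCoprime.mul_right ?_ ?_)
    · exact ⟨-4 * l * δ, δ, by rcases hδ with rfl | rfl <;> linarith⟩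
    · exact ⟨-2 * l * δ, δ, by rcases hδ with rfl | rfl <;> rw [he] <;> ring⟩
  have h2 : (y : ℤ) ^ 2 ∣ (J : ℤ) ^ 2 := hcop.dvd_of_dvd_mul_right ⟨k, by rw [← h1]; ring⟩
  have h3 : y ∣ J := Int.natCast_dvd_natCast.1 ((Int.pow_dvd_pow_iff (by norm_num)).1 h2)
  refine ⟨h3, ?_⟩
  obtain ⟨q, rfl⟩ := h3
  rw [Nat.mul_div_cancel_left _ hy]
  refine mul_left_cancel₀ (pow_ne_zero 2 (show (y : ℤ) ≠ 0 by positivity)) ?_
  push_cast at h1
  rw [hxe]
  linear_combination 2 * h1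

/-- The layer arithmetic over a maximal `C(t)`. -/
theorem false_of_layer_data (h : Cfg S l c s) (hl : 2 ≤ l) {n p τ j m d q₀ : ℕ} {e : ℤ}
    (hn : 4 * l = 2 ^ n) (hp : p.Prime) (hp2 : Odd p) (hpτ : p ∣ τ) (hτ : 0 < τ)
    (hj : j ≤ τ) (hjo : Odd j) (hjp : p ∣ j ∨ (j = 1 ∧ 1 < m))
    (hm : Odd m) (hmp : 2 * m ≤ p + 1)
    (hd : Nat.card (pairCore (c ^ l) s) = d) (hd' : Nat.card (pairCore (c ^ l) (c * s)) = d)
    (ho : Nat.card (coreAt (c ^ l)) = j * τ * m * d)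
    (hmod : ∀ r : ℕ, r.Prime → r ∣ j * τ →
      (centralizer ({c ^ l} : Set G)).index ≡ 1 [MOD r])
    (he : e = 1 ∨ e = -1) (hq : (q₀ : ℤ) = 2 ^ n * τ + e) (hpp : IsPrimePow q₀)
    (hqj : q₀.Coprime j) (hdvd : 4 * l * τ * d * q₀ ∣ Nat.card G) : False := by
  obtain ⟨x, δ, hδ, hx0, hxne, ⟨y', hy'⟩, hG⟩ := exists_order_formula h hl
  set k := (centralizer ({c ^ l} : Set G)).index with hk
  have hd0 : 0 < d := hd ▸ Nat.card_pos
  have hn3 : 3 ≤ n := by
    by_contra hlt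
    have : 2 ^ n ≤ 2 ^ 2 := Nat.pow_le_pow_right (by norm_num) (by omega)
    omega
  have hGk : Nat.card G = 4 * l * (j * τ * m * d) * k := by
    rw [← ho, ← card_centralizer_center h.gen, hk, Subgroup.card_mul_index]
  obtain ⟨y, rfl⟩ : ∃ y : ℕ, y' = (y : ℤ) := by
    refine ⟨y'.toNat, (Int.toNat_of_nonneg ?_).symm⟩
    by_contra hneg
    rcases hδ with rfl | rfl <;> nlinarith [mul_le_mul_of_nonpos_right
      (show (8 : ℤ) ≤ 4 * l by omega) (show y' ≤ 0 by omega)]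
  have hy0 : 0 < y := by
    refine Nat.pos_of_ne_zero fun h0 => hxne ?_
    rw [h0, Nat.cast_zero, mul_zero] at hy'
    linarith
  -- the index in terms of `x`
  have hkq : (k : ℤ) * ((x : ℤ) - δ) ^ 2 =
      8 * (l : ℤ) ^ 2 * ((j * τ * m : ℕ) : ℤ) ^ 2 * (x * ((x : ℤ) + δ)) := by
    have hG' := hG
    rw [hd, hd', ho, hGk, H35.GW.ratio] at hG'
    have hxd : ((x : ℚ) - δ) ≠ 0 := by
      intro h0
      exact hxne (by exact_mod_cast sub_eq_zero.1 h0)
    push_cast at hG'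
    rw [div_mul_eq_mul_div, eq_div_iff (pow_ne_zero 2 hxd)] at hG'
    have hne : (4 * (j : ℚ) * m) ≠ 0 := by
      have hj0 : 0 < j := hjo.pos
      have hm0 : 0 < m := hm.pos
      positivity
    have hl0 : (l : ℚ) ≠ 0 := by exact_mod_cast h.gen.lpos.ne'
    have hτ0 : (τ : ℚ) ≠ 0 := by exact_mod_cast hτ.ne'
    have hq2 : (k : ℚ) * ((x : ℚ) - δ) ^ 2 =
        8 * (l : ℚ) ^ 2 * ((j : ℚ) * τ * m) ^ 2 * (x * ((x : ℚ) + δ)) := by
      refine mul_left_cancel₀ hne ?_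
      have hd0' : (d : ℚ) ≠ 0 := by exact_mod_cast hd0.ne'
      field_simp at hG'
      linear_combination hG'
    exact_mod_cast hq2
  obtain ⟨hyJ, h2k⟩ := index_split h.gen.lpos hδ hy' hy0 hkq
  set J := j * τ * m with hJ
  -- the primes of `j τ` do not divide `J / y`
  have hcop : (j * τ).Coprime (J / y) := by
    refine Nat.coprime_of_dvd fun r hr hr1 hr2 => ?_
    have h1 := hmod r hr hr1
    have hr2' : r ≠ 2 := by
      rintro rfl
      rcases hr.dvd_mul.1 hr1 with h3 | h3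
      · exact Nat.not_odd_iff_even.2 (even_iff_two_dvd.2 h3) hjo
      · have ho2 := H61.GW.odd_coreAt (G := G) (c ^ l)
        rw [ho] at ho2
        exact Nat.not_odd_iff_even.2 (even_iff_two_dvd.2
          (h3.trans ((dvd_mul_left τ j).trans ((dvd_mul_right (j * τ) m).trans (dvd_mul_right _ d))))) ho2
    have h4 : (r : ℤ) ∣ 2 * (k : ℤ) := h2k ▸
      Dvd.dvd.mul_right (dvd_pow (Int.natCast_dvd_natCast.2 hr2) two_ne_zero) _
    rcases hr.dvd_mul.1 (by exact_mod_cast h4 : r ∣ 2 * k) with h5 | h5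
    · exact hr2' ((Nat.prime_dvd_prime_iff_eq hr Nat.prime_two).1 h5)
    · rw [Nat.ModEq, Nat.mod_eq_zero_of_dvd ?_ ] at h1
      · rw [Nat.one_mod_eq_one.2 hr.ne_one] at h1; omega
      · exact h5
  have hyjτ : j * τ ∣ y := hcop.dvd_of_dvd_mul_right (by
    rw [Nat.mul_div_cancel' hyJ]; exact ⟨m, rfl⟩)
  obtain ⟨σ, rfl⟩ := hyjτ
  have hσm : σ ∣ m := by
    have h1 : j * τ * σ ∣ j * τ * m := hyJ
    exact (Nat.mul_dvd_mul_iff_left (Nat.mul_pos hjo.pos hτ)).1 h1
  have hJy : J / (j * τ * σ) = m / σ := Nat.mul_div_mul_left _ _ (Nat.mul_pos hjo.pos hτ)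
  rw [hJy] at h2k
  -- modulo `p` the index is the square of `m / σ`
  have hσ : σ = m := by
    refine H15.GW.sigma_eq hp hm hmp hσm ?_
    have h1 : (p : ℤ) ∣ (k : ℤ) - 1 := by
      have := (Nat.modEq_iff_dvd.1 (hmod p hp (hpτ.mul_left j)).symm)
      simpa using this
    have h3 : (p : ℤ) ∣ (x : ℤ) - δ := by
      rw [hy']
      exact Dvd.dvd.mul_left (Int.natCast_dvd_natCast.2 ((hpτ.mul_left j).mul_right σ)) _
    have h4 : (p : ℤ) ∣ 2 * (((m / σ : ℕ) : ℤ) ^ 2 - 1) := by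
      have hδδ : δ * δ = 1 := by rcases hδ with rfl | rfl <;> norm_num
      have h5 : 2 * (((m / σ : ℕ) : ℤ) ^ 2 - 1) = 2 * ((k : ℤ) - 1) -
          ((m / σ : ℕ) : ℤ) ^ 2 * (((x : ℤ) - δ) * ((x : ℤ) + 2 * δ)) := by
        linear_combination -h2k - 2 * ((m / σ : ℕ) : ℤ) ^ 2 * hδδ
      rw [h5]
      exact dvd_sub (Dvd.dvd.mul_left h1 _) (Dvd.dvd.mul_left (Dvd.dvd.mul_right h3 _) _)
    have hcop2 : IsCoprime (p : ℤ) (2 : ℤ) :=
      Nat.isCoprime_iff_coprime.2 (Nat.coprime_two_right.2 hp2)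
    exact hcop2.dvd_of_dvd_mul_left h4
  rw [hσ] at hy' h2k
  rw [Nat.div_self hm.pos] at h2k
  -- `q₀` divides `m x (x + δ)`
  have hdiv : (q₀ : ℤ) ∣ (m : ℤ) * ((2 ^ n * j * τ * m + δ) * (2 ^ n * j * τ * m + 2 * δ)) := by
    have h1 : q₀ ∣ j * (m * k) := by
      have h2 : (4 * l * τ * d) * q₀ ∣ (4 * l * τ * d) * (j * (m * k)) := by
        rw [show (4 * l * τ * d) * (j * (m * k)) = 4 * l * (j * τ * m * d) * k by ring, ← hGk]
        exact hdvd
      refine (Nat.mul_dvd_mul_iff_left ?_).1 h2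
      have := h.gen.lpos
      positivity
    have h2 := hqj.dvd_of_dvd_mul_left h1
    have hxv : (x : ℤ) = 2 ^ n * j * τ * m + δ := by
      have h4l : (4 : ℤ) * l = 2 ^ n := by exact_mod_cast hn
      push_cast at hy'
      linear_combination hy' + ((j : ℤ) * τ * m) * h4l
    refine (Int.natCast_dvd_natCast.2 h2).trans ⟨2, ?_⟩
    push_cast at h2k ⊢
    rw [← hxv, show (2 : ℤ) ^ n * j * τ * m + 2 * δ = (x : ℤ) + δ by rw [hxv]; ring]
    linear_combination -(m : ℤ) * h2k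
  exact H15.GW.layer_absurd hn3 hp hp2 (Nat.le_of_dvd hτ hpτ) hj hjo
    (hjp.imp_left fun h => ⟨h, hjo.pos⟩) hm hmp he hδ
    (Dvd.dvd.mul_left (Int.natCast_dvd_natCast.2 hpτ) _) hq hpp hdiv

end Cfsg.Agent.H4.GW
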