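import Cfsg.Agent.H4.GW.LayerCount

/-!
# Gorenstein–Walter, M3: the count of the mixed case, every `l`

`false_of_count` from the order relation `hord`, which comes from the order formula for `2 ≤ l`
(`order_relation`) and from the halves for `l = 1`.
-/

set_option autoImplicit false
set_option linter.style.haveILetI false
set_option linter.unusedVariables false

namespace Cfsg.Agent.H4.GW

open Subgroup Cfsg.Agent Cfsg.Agent.GW

universe u

/-- No layer with `m + 2 ≤ p`, all `n ≥ 2`. -/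
theorem layer_absurd_mixed {n p τ j m q₀ : ℕ} {e δ : ℤ} (hn : 2 ≤ n) (hp : p.Prime) (hp2 : Odd p)
    (hpτ : p ≤ τ) (hj : j ≤ τ) (hjo : Odd j) (hjp : (p ∣ j ∧ 0 < j) ∨ (j = 1 ∧ 1 < m))
    (hm : Odd m) (hmp : m + 2 ≤ p)
    (he : e = 1 ∨ e = -1) (hδ : δ = 1 ∨ δ = -1) (hpe : (p : ℤ) ∣ (2 : ℤ) ^ n * τ)
    (hq : (q₀ : ℤ) = 2 ^ n * τ + e) (hpp : IsPrimePow q₀)
    (hdvd : (q₀ : ℤ) ∣ m * ((2 ^ n * j * τ * m + δ) * (2 ^ n * j * τ * m + 2 * δ))) : False := by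
  have hN : (4 : ℤ) ≤ 2 ^ n := le_trans (by norm_num) (pow_le_pow_right₀ (by norm_num) hn)
  have hτ3 : (3 : ℤ) ≤ τ := by
    have h3 := hp.two_le
    obtain ⟨k, hk⟩ := hp2
    omega
  have hmτ : (m : ℤ) ≤ τ := by omega
  have hmpos : 0 < m := by rcases hm with ⟨k, hk⟩; omega
  set P : ℤ := 2 ^ n * τ with hP
  have hP8 : 4 * (τ : ℤ) ≤ P := by rw [hP]; nlinarith
  set M : ℤ := (j : ℤ) * m with hM
  -- separate the three factors
  obtain ⟨ℓ, f, hℓ, hf, hpow⟩ := hpp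
  have hℓi : Prime (ℓ : ℤ) := Nat.prime_iff_prime_int.1 hℓ.nat_prime
  have hℓodd : ℓ ≠ 2 := by
    rintro rfl
    have : (2 : ℤ) ∣ P + e := by
      rw [← hq, ← hpow]; push_cast; exact dvd_pow_self 2 hf.ne'
    have h2P : (2 : ℤ) ∣ P := Dvd.dvd.mul_right (dvd_pow_self 2 (by omega)) _
    have := (Int.dvd_add_right h2P).1 this
    rcases he with rfl | rfl <;> omega
  set A : ℤ := 2 ^ n * j * τ * m + δ with hA
  set B : ℤ := 2 ^ n * j * τ * m + 2 * δ with hB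
  have cop : ∀ {u w : ℤ}, (∀ d : ℤ, d ∣ u → d ∣ w → d ∣ 2) →
      ¬((ℓ : ℤ) ∣ u ∧ (ℓ : ℤ) ∣ w) := by
    intro u w h hh
    have h2 := Int.natCast_dvd_natCast.1 (show (ℓ : ℤ) ∣ ((2 : ℕ) : ℤ) from h _ hh.1 hh.2)
    rcases (Nat.dvd_prime Nat.prime_two).1 h2 with h1 | h1
    · exact hℓ.nat_prime.one_lt.ne' h1
    · exact hℓodd h1
  have hq' : (q₀ : ℤ) = (ℓ : ℤ) ^ f := by rw [← hpow]; push_cast; rfl
  have hδ2 : ∀ d : ℤ, d ∣ δ → d ∣ 2 := by
    intro d hd; rcases hδ with rfl | rfl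
    · exact dvd_trans hd (one_dvd _)
    · exact dvd_trans hd ⟨-2, by norm_num⟩
  have hmA : ¬((ℓ : ℤ) ∣ (m : ℤ) ∧ (ℓ : ℤ) ∣ A) := cop fun d h1 h2 => by
    refine hδ2 d ((Int.dvd_add_right ?_).1 h2)
    exact Dvd.dvd.mul_left h1 _
  have hmB : ¬((ℓ : ℤ) ∣ (m : ℤ) ∧ (ℓ : ℤ) ∣ B) := cop fun d h1 h2 => by
    have h := (Int.dvd_add_right (Dvd.dvd.mul_left h1 _)).1 h2
    rcases hδ with rfl | rfl
    · simpa using h
    · simpa using h
  have hAB : ¬((ℓ : ℤ) ∣ A ∧ (ℓ : ℤ) ∣ B) := cop fun d h1 h2 => by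
    refine hδ2 d ?_
    have h : δ = B - A := by rw [hA, hB]; ring
    rw [h]
    exact dvd_sub h2 h1
  have split : (q₀ : ℤ) ∣ (m : ℤ) ∨ (q₀ : ℤ) ∣ A ∨ (q₀ : ℤ) ∣ B := by
    rw [hq'] at hdvd ⊢
    by_cases h : (ℓ : ℤ) ∣ (m : ℤ)
    · left
      have hnA : ¬(ℓ : ℤ) ∣ A := fun h' => hmA ⟨h, h'⟩
      have hnB : ¬(ℓ : ℤ) ∣ B := fun h' => hmB ⟨h, h'⟩
      have h3 : ¬(ℓ : ℤ) ∣ A * B := fun h' => (hℓi.dvd_or_dvd h').elim hnA hnB
      exact hℓi.pow_dvd_of_dvd_mul_right f h3 hdvd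
    · right
      have h3 := hℓi.pow_dvd_of_dvd_mul_left f h hdvd
      by_cases h' : (ℓ : ℤ) ∣ A
      · left
        exact hℓi.pow_dvd_of_dvd_mul_right f (fun h'' => hAB ⟨h', h''⟩) h3
      · right
        exact hℓi.pow_dvd_of_dvd_mul_left f h' h3
  have hcase : (q₀ : ℤ) ∣ M - e * δ ∨ (q₀ : ℤ) ∣ M - 2 * (e * δ) := by
    have he2 : e * e = 1 := by rcases he with rfl | rfl <;> norm_num
    rcases split with h | h | h
    · exfalso
      have := Int.le_of_dvd (by exact_mod_cast hmpos) h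
      rw [hq] at this
      rcases he with rfl | rfl <;> omega
    · left
      have h1 : M - e * δ = (q₀ : ℤ) * (e * M) - e * A := by
        rw [hq, hA, hM, hP]; linear_combination (-(j : ℤ) * m) * he2
      rw [h1]
      exact dvd_sub (Dvd.intro _ rfl) (Dvd.dvd.mul_left h _)
    · right
      have h1 : M - 2 * (e * δ) = (q₀ : ℤ) * (e * M) - e * B := by
        rw [hq, hB, hM, hP]; linear_combination (-(j : ℤ) * m) * he2
      rw [h1]
      exact dvd_sub (Dvd.intro _ rfl) (Dvd.dvd.mul_left h _)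
  -- `M = λ q₀ + c e δ`
  have main : ∀ c : ℤ, (c = 1 ∨ c = 2) → (q₀ : ℤ) ∣ M - c * (e * δ) → False := by
    intro c hc hd
    obtain ⟨l, hl⟩ := hd
    rcases hjp with ⟨hpj, hj0⟩ | ⟨rfl, hm1⟩
    swap
    · have hMm : M = (m : ℤ) := by rw [hM]; push_cast; ring
      have hM2 : (3 : ℤ) ≤ M := by
        rw [hMm]; rcases hm with ⟨k, hk⟩; omega
      have h1 : 0 < M - c * (e * δ) := by
        rcases hc with rfl | rfl <;> rcases he with rfl | rfl <;> rcases hδ with rfl | rfl <;>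
          omega
      have h2 := Int.le_of_dvd h1 ⟨l, hl⟩
      rw [hq] at h2
      rcases hc with rfl | rfl <;> rcases he with rfl | rfl <;> rcases hδ with rfl | rfl <;> omega
    -- now `p ∣ M`
    have hMp : (p : ℤ) ∣ M := Dvd.dvd.mul_right (Int.natCast_dvd_natCast.2 hpj) _
    have hMge : (3 : ℤ) ≤ M := by
      have h3 : 3 ≤ j := le_trans (by have := hp.two_le; obtain ⟨k, hk⟩ := hp2; omega)
        (Nat.le_of_dvd hj0 hpj)
      rw [hM]; nlinarith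
    have hmp' : (m : ℤ) + 2 ≤ p := by exact_mod_cast hmp
    have hMle : M ≤ (τ : ℤ) * (p - 2) := by
      rw [hM]; nlinarith [show (j : ℤ) ≤ τ by exact_mod_cast hj]
    have hq7 : 3 * (τ : ℤ) ≤ q₀ := by rw [hq]; rcases he with rfl | rfl <;> omega
    have hlpos : 0 < l := by
      by_contra hcon
      push Not at hcon
      have : (q₀ : ℤ) * l ≤ 0 := mul_nonpos_of_nonneg_of_nonpos (by positivity) hcon
      rcases hc with rfl | rfl <;> rcases he with rfl | rfl <;> rcases hδ with rfl | rfl <;> omega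
    have hl14 : 3 * l < (p : ℤ) - 1 := by
      by_contra hcon
      push Not at hcon
      have h7 : 3 * (τ : ℤ) * l ≤ q₀ * l := mul_le_mul_of_nonneg_right hq7 hlpos.le
      have hc4 : |c * (e * δ)| ≤ 2 := by
        rcases hc with rfl | rfl <;> rcases he with rfl | rfl <;> rcases hδ with rfl | rfl <;>
          norm_num
      have := abs_le.1 hc4
      nlinarith
    -- modulo `p`
    have hlc : (p : ℤ) ∣ l + c * δ := by
      have h1 : (p : ℤ) ∣ e * (l + c * δ) := by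
        have h2 : e * (l + c * δ) = M - P * l := by
          have : M = (P + e) * l + c * (e * δ) := by rw [← hq]; linarith
          rw [this]; ring
        rw [h2]
        exact dvd_sub hMp (Dvd.dvd.mul_right hpe _)
      rcases he with rfl | rfl
      · simpa using h1
      · simpa using dvd_neg.2 h1
    have hl0 : l + c * δ = 0 := by
      by_contra hne
      have h3 := Int.le_of_dvd (abs_pos.2 hne) ((dvd_abs _ _).2 hlc)
      have hp3 : (3 : ℤ) ≤ p := by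
        have := hp.two_le; obtain ⟨k, hk⟩ := hp2; omega
      rcases hc with rfl | rfl <;> rcases hδ with rfl | rfl <;>
        rcases abs_choice (l + _ * _) with h | h <;> rw [h] at h3 <;> omega
    -- so `δ = -1` and `M = c P` is even
    have hδn : δ = -1 := by
      rcases hδ with rfl | rfl
      · exfalso; rcases hc with rfl | rfl <;> omega
      · rfl
    subst hδn
    have hlc' : l = c := by omega
    have hMeq : M = c * P := by
      have : M = (P + e) * l + c * (e * -1) := by rw [← hq]; linarith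
      rw [this, hlc']; ring
    have hMev : (2 : ℤ) ∣ M := by
      rw [hMeq]
      exact Dvd.dvd.mul_left (Dvd.dvd.mul_right (dvd_pow_self 2 (by omega)) _) _
    obtain ⟨k, hk⟩ := hjo.mul hm
    have hMo : M = 2 * (k : ℤ) + 1 := by rw [hM]; exact_mod_cast hk
    omega
  rcases hcase with h | h
  · exact main 1 (Or.inl rfl) (by simpa using h)
  · exact main 2 (Or.inr rfl) (by simpa using h)

/-- A divisor `s` of `m` with `s ≡ ±1` modulo `p` is `1` if `m + 2 ≤ p`. -/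
theorem sigma_eq_mixed {p m σ : ℕ} (hp : p.Prime) (hm : Odd m) (hmp : m + 2 ≤ p) (hσ : σ ∣ m)
    (hc : (p : ℤ) ∣ ((m / σ : ℕ) : ℤ) ^ 2 - 1) : σ = m := by
  obtain ⟨s, rfl⟩ := hσ
  have hσ0 : 0 < σ := Nat.pos_of_ne_zero fun h0 => by simp [h0] at hm
  rw [Nat.mul_div_cancel_left _ hσ0] at hc
  have hsle : s ≤ σ * s := Nat.le_mul_of_pos_left _ hσ0
  have hs0 : 0 < s := (Nat.odd_mul.1 hm).2.pos
  have hc' : (p : ℤ) ∣ ((s : ℤ) - 1) * ((s : ℤ) + 1) := by
    convert hc using 1; ring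
  rcases (Nat.prime_iff_prime_int.1 hp).dvd_or_dvd hc' with h | h
  · by_cases h1 : s = 1
    · simp [h1]
    · have := Int.le_of_dvd (by omega) h
      omega
  · have := Int.le_of_dvd (by omega) h
    omega

variable {G : Type u} [Group G] [Finite G] {S : Sylow 2 G} {l : ℕ} {c s : G}

/-- The order relation for `2 ≤ l` and `d' = d`. -/
theorem order_relation (h : Cfg S l c s) (hl : 2 ≤ l) {j τ m d : ℕ}
    (hd : Nat.card (pairCore (c ^ l) s) = d) (hd' : Nat.card (pairCore (c ^ l) (c * s)) = d)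
    (ho : Nat.card (coreAt (c ^ l)) = j * τ * m * d) :
    ∃ (x : ℕ) (δ : ℤ), (δ = 1 ∨ δ = -1) ∧ (x : ℤ) ≠ δ ∧ (4 * l : ℤ) ∣ (x : ℤ) - δ ∧
      ((centralizer ({c ^ l} : Set G)).index : ℤ) * ((x : ℤ) - δ) ^ 2 =
        8 * (l : ℤ) ^ 2 * ((j * τ * m : ℕ) : ℤ) ^ 2 * (x * ((x : ℤ) + δ)) := by
  obtain ⟨x, δ, hδ, -, hxne, hdvd, hG⟩ := exists_order_formula h hl
  refine ⟨x, δ, hδ, hxne, hdvd, ?_⟩
  set k := (centralizer ({c ^ l} : Set G)).index
  have hd0 : 0 < d := hd ▸ Nat.card_pos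
  have hJ : 0 < j * τ * m := by
    refine Nat.pos_of_ne_zero fun h0 => ?_
    rw [h0, zero_mul] at ho
    exact absurd ho Nat.card_pos.ne'
  have hGk : Nat.card G = 4 * l * (j * τ * m * d) * k := by
    rw [← ho, ← card_centralizer_center h.gen, Subgroup.card_mul_index]
  rw [hd, hd', ho, hGk, H35.GW.ratio] at hG
  have hxd : ((x : ℚ) - δ) ≠ 0 := fun h0 => hxne (by exact_mod_cast sub_eq_zero.1 h0)
  push_cast at hG
  rw [div_mul_eq_mul_div, eq_div_iff (pow_ne_zero 2 hxd)] at hG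
  have hq : (k : ℚ) * ((x : ℚ) - δ) ^ 2 =
      8 * (l : ℚ) ^ 2 * ((j * τ * m : ℕ) : ℚ) ^ 2 * (x * ((x : ℚ) + δ)) := by
    refine mul_left_cancel₀ (show (4 * ((j * τ * m : ℕ) : ℚ)) ≠ 0 by positivity) ?_
    have hd0' : (d : ℚ) ≠ 0 := by exact_mod_cast hd0.ne'
    have hl0 : (l : ℚ) ≠ 0 := by exact_mod_cast h.gen.lpos.ne'
    field_simp at hG
    push_cast
    linear_combination hG
  exact_mod_cast hq

/-- COUNT: the arithmetic of the mixed case. -/
theorem false_of_count (h : Cfg S l c s) {p τ j m d q₀ : ℕ} {e : ℤ}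
    (hp : p.Prime) (hp2 : Odd p) (hpτ : p ∣ τ) (hj : j ≤ τ) (hjo : Odd j)
    (hjp : p ∣ j ∨ (j = 1 ∧ 1 < m)) (hm : Odd m) (hmp : m + 2 ≤ p)
    (ho : Nat.card (coreAt (c ^ l)) = j * τ * m * d)
    (he : e = 1 ∨ e = -1) (hq : (q₀ : ℤ) = 4 * l * τ + e) (hpp : IsPrimePow q₀)
    (hqj : q₀.Coprime j) (hdvd : 4 * l * τ * d * q₀ ∣ Nat.card G)
    (hmod : ∀ r : ℕ, r.Prime → r ∣ j * τ →
      (centralizer ({c ^ l} : Set G)).index ≡ 1 [MOD r])
    (hord : ∃ (x : ℕ) (δ : ℤ), (δ = 1 ∨ δ = -1) ∧ (x : ℤ) ≠ δ ∧ (4 * l : ℤ) ∣ (x : ℤ) - δ ∧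
      ((centralizer ({c ^ l} : Set G)).index : ℤ) * ((x : ℤ) - δ) ^ 2 =
        8 * (l : ℤ) ^ 2 * ((j * τ * m : ℕ) : ℤ) ^ 2 * (x * ((x : ℤ) + δ))) : False := by
  obtain ⟨x, δ, hδ, hxne, ⟨y', hy'⟩, hkq⟩ := hord
  set k := (centralizer ({c ^ l} : Set G)).index with hk
  have hl0 : 0 < l := h.gen.lpos
  have ho2 := H61.GW.odd_coreAt (G := G) (c ^ l)
  rw [ho] at ho2
  obtain ⟨⟨⟨-, hτo⟩, -⟩, hdo⟩ : ((Odd j ∧ Odd τ) ∧ Odd m) ∧ Odd d := by
    simpa only [Nat.odd_mul] using ho2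
  have hd0 : 0 < d := hdo.pos
  obtain ⟨n, hn, hn2⟩ : ∃ n, 4 * l = 2 ^ n ∧ 2 ≤ n := by
    obtain ⟨n, hn⟩ := IsPGroup.iff_card.1 S.isPGroup'
    rw [Nat.card_congr (H61.GW.nonempty_dihedral h.gen).some.toEquiv, DihedralGroup.nat_card,
      show 2 * (2 * l) = 4 * l by ring] at hn
    refine ⟨n, hn, ?_⟩
    by_contra hlt
    have : 2 ^ n ≤ 2 ^ 1 := Nat.pow_le_pow_right (by norm_num) (by omega)
    omega
  have hGk : Nat.card G = 4 * l * (j * τ * m * d) * k := by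
    rw [← ho, ← card_centralizer_center h.gen, hk, Subgroup.card_mul_index]
  obtain ⟨y, rfl⟩ : ∃ y : ℕ, y' = (y : ℤ) := by
    refine ⟨y'.toNat, (Int.toNat_of_nonneg ?_).symm⟩
    by_contra hneg
    have : (4 : ℤ) * l * y' ≤ -4 := by nlinarith
    rcases hδ with rfl | rfl <;> omega
  have hy0 : 0 < y := by
    refine Nat.pos_of_ne_zero fun h0 => hxne ?_
    rw [h0, Nat.cast_zero, mul_zero] at hy'
    linarith
  obtain ⟨hyJ, h2k⟩ := index_split hl0 hδ hy' hy0 hkq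
  -- the primes of `j τ` do not divide `J / y`
  have hcop : (j * τ).Coprime (j * τ * m / y) := by
    refine Nat.coprime_of_dvd fun r hr hr1 hr2 => ?_
    have h1 := hmod r hr hr1
    have h4 : (r : ℤ) ∣ 2 * (k : ℤ) := h2k ▸
      Dvd.dvd.mul_right (dvd_pow (Int.natCast_dvd_natCast.2 hr2) two_ne_zero) _
    rcases hr.dvd_mul.1 (by exact_mod_cast h4 : r ∣ 2 * k) with h5 | h5
    · obtain rfl := (Nat.prime_dvd_prime_iff_eq hr Nat.prime_two).1 h5
      exact Nat.not_even_iff_odd.2 (hjo.mul hτo) (even_iff_two_dvd.2 hr1)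
    · rw [Nat.ModEq, Nat.mod_eq_zero_of_dvd h5, Nat.one_mod_eq_one.2 hr.ne_one] at h1
      omega
  have hyjτ : j * τ ∣ y := hcop.dvd_of_dvd_mul_right (by
    rw [Nat.mul_div_cancel' hyJ]; exact ⟨m, rfl⟩)
  obtain ⟨σ, rfl⟩ := hyjτ
  have hpos : 0 < j * τ := Nat.mul_pos hjo.pos hτo.pos
  have hσm : σ ∣ m := (Nat.mul_dvd_mul_iff_left hpos).1 hyJ
  rw [Nat.mul_div_mul_left _ _ hpos] at h2k
  -- modulo `p` the index is the square of `m / σ`
  have hσ : σ = m := by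
    refine sigma_eq_mixed hp hm hmp hσm ?_
    have h1 : (p : ℤ) ∣ (k : ℤ) - 1 := by
      have := Nat.modEq_iff_dvd.1 (hmod p hp (hpτ.mul_left j)).symm
      simpa using this
    have h3 : (p : ℤ) ∣ (x : ℤ) - δ := by
      rw [hy']
      exact Dvd.dvd.mul_left (Int.natCast_dvd_natCast.2 ((hpτ.mul_left j).mul_right σ)) _
    have h4 : (p : ℤ) ∣ 2 * (((m / σ : ℕ) : ℤ) ^ 2 - 1) := by
      have hδδ : δ * δ = 1 := by rcases hδ with rfl | rfl <;> norm_num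
      have h5 : 2 * (((m / σ : ℕ) : ℤ) ^ 2 - 1) = 2 * ((k : ℤ) - 1) -
          ((m / σ : ℕ) : ℤ) ^ 2 * (((x : ℤ) - δ) * ((x : ℤ) + 2 * δ)) := by
        linear_combination -h2k - 2 * ((m / σ : ℕ) : ℤ) ^ 2 * hδδ
      rw [h5]
      exact dvd_sub (Dvd.dvd.mul_left h1 _) (Dvd.dvd.mul_left (Dvd.dvd.mul_right h3 _) _)
    exact (Nat.isCoprime_iff_coprime.2 (Nat.coprime_two_right.2 hp2)).dvd_of_dvd_mul_left h4
  rw [hσ] at hy' h2k
  rw [Nat.div_self hm.pos] at h2k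
  have h4l : (4 : ℤ) * l = 2 ^ n := by exact_mod_cast hn
  -- `q₀` divides `m x (x + δ)`
  have hdiv : (q₀ : ℤ) ∣ (m : ℤ) * ((2 ^ n * j * τ * m + δ) * (2 ^ n * j * τ * m + 2 * δ)) := by
    have h1 : q₀ ∣ j * (m * k) := by
      refine (Nat.mul_dvd_mul_iff_left (show 0 < 4 * l * τ * d by
        have := hτo.pos
        positivity)).1 ?_
      rw [show (4 * l * τ * d) * (j * (m * k)) = 4 * l * (j * τ * m * d) * k by ring, ← hGk]
      exact hdvd
    have hxv : (x : ℤ) = 2 ^ n * j * τ * m + δ := by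
      push_cast at hy'
      linear_combination hy' + ((j : ℤ) * τ * m) * h4l
    refine (Int.natCast_dvd_natCast.2 (hqj.dvd_of_dvd_mul_left h1)).trans ⟨2, ?_⟩
    push_cast at h2k ⊢
    rw [← hxv, show (2 : ℤ) ^ n * j * τ * m + 2 * δ = (x : ℤ) + δ by rw [hxv]; ring]
    linear_combination -(m : ℤ) * h2k
  exact layer_absurd_mixed hn2 hp hp2 (Nat.le_of_dvd hτo.pos hpτ) hj hjo
    (hjp.imp_left fun h => ⟨h, hjo.pos⟩) hm hmp he hδ
    (Dvd.dvd.mul_left (Int.natCast_dvd_natCast.2 hpτ) _) (by rw [hq, h4l]) hpp hdiv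

end Cfsg.Agent.H4.GW
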