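import Cfsg.Agent.H62.GW.MixedLayer
import Cfsg.Agent.H62.GW.MixedCore

/-!
# GW programme, M3: only reflections invert the torus

An element of `S` normalising `⟨y⟩` and inverting a nontrivial element of `O ∩ L` lies outside
`⟨c⟩`, so it is an involution: the layer of `N⟨y⟩` is `L`, and a non-involution of `PSL(2,q₀)`
commutes with one involution of its automorphism group with dihedral Sylow `2`-subgroups.
-/

set_option autoImplicit false
set_option linter.unusedSectionVars false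
set_option linter.style.haveILetI false

namespace Cfsg.Agent.H4.GW

open Subgroup Cfsg.Agent
open Cfsg.Agent.GW (Cfg coreAt coreIn)
open Cfsg.Agent.Components (fitIn layerIn)
open Cfsg.Agent.H56 (PSLn)
open Cfsg.Agent.H62.GW (MixPt torusPart fixPart odd_orderOf_of_mem)

universe u

variable {G : Type u} [Group G] [Finite G] {S : Sylow 2 G} {l : ℕ} {c s y : G}

theorem centralizer_le_normalizer_zpowers (y : G) :
    centralizer ({y} : Set G) ≤ normalizer (zpowers y : Set G) := by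
  refine le_trans (fun x hx => mem_centralizer_iff.2 fun g hg => ?_) (centralizer_le_normalizer _)
  obtain ⟨k, rfl⟩ := mem_zpowers_iff.1 hg
  exact (Commute.zpow_left (mem_centralizer_singleton_iff.1 hx).symm k).eq

theorem normalizer_zpowers_ne_top (h : Cfg S l c s) (hy : y ≠ 1) :
    normalizer (zpowers y : Set G) ≠ ⊤ := fun e => by
  haveI := h.simple
  haveI := normalizer_eq_top_iff.1 e
  rcases (inferInstance : (zpowers y).Normal).eq_bot_or_eq_top with e' | e'
  · exact hy (zpowers_eq_bot.1 e')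
  · refine h.nonab ⟨⟨fun a b => ?_⟩⟩
    obtain ⟨i, rfl⟩ := mem_zpowers_iff.1 (e' ▸ mem_top a)
    obtain ⟨j, rfl⟩ := mem_zpowers_iff.1 (e' ▸ mem_top b)
    exact (Commute.zpow_zpow_self y i j).eq

variable (P : MixPt S l c s y)
include P

/-- The layer of `N⟨y⟩` is the layer of `C(y)`. -/
theorem layerIn_normalizer :
    layerIn (normalizer (zpowers y : Set G)) = layerIn (centralizer ({y} : Set G)) := by
  set X := centralizer ({y} : Set G) with hX
  set N := normalizer (zpowers y : Set G) with hN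
  have hXN : X ≤ N := centralizer_le_normalizer_zpowers y
  refine le_antisymm (P.perfect_le ?_ ?_) ?_
  · have hAN : zpowers y ≤ N := le_normalizer
    haveI hn : ((zpowers y).subgroupOf N).Normal := normal_in_normalizer
    have hsol : Group.IsSolvable ↥((zpowers y).subgroupOf N) :=
      Coprime.isSolvable_of_le le_rfl (Group.isSolvable_of_isSolvable_injective
        (f := (subgroupOfEquivOfLe hAN).toMonoidHom) (subgroupOfEquivOfLe hAN).injective)
    have h0 := Components.layer_commutator_solvable hsol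
      (by rw [normalizer_eq_top_iff.2 hn]; exact le_top)
    rintro _ ⟨x, hx, rfl⟩
    have h1 := (Subgroup.commutator_eq_bot_iff_le_centralizer.1 h0) hx
    exact mem_centralizer_singleton_iff.2
      (congrArg Subtype.val (mem_centralizer_iff.1 h1 ⟨y, hAN (mem_zpowers y)⟩ (mem_zpowers y))).symm
  · rw [← Subgroup.map_commutator, Components.layer_perfect]
  · haveI hn : (X.subgroupOf N).Normal := by
      refine ⟨fun x hx g => ?_⟩
      rw [mem_subgroupOf] at hx ⊢
      have hg : (g : G)⁻¹ * y * (g : G) ∈ zpowers y := by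
        simpa using (mem_normalizer_iff.1 (inv_mem g.2) y).1 (mem_zpowers y)
      obtain ⟨k, hk⟩ := mem_zpowers_iff.1 hg
      have hc : Commute (x : G) ((g : G)⁻¹ * y * (g : G)) :=
        hk ▸ Commute.zpow_right (mem_centralizer_singleton_iff.1 hx) k
      refine mem_centralizer_singleton_iff.2 ?_
      show (g : G) * x * (g : G)⁻¹ * y = y * ((g : G) * x * (g : G)⁻¹)
      calc (g : G) * x * (g : G)⁻¹ * y = (g : G) * ((x : G) * ((g : G)⁻¹ * y * g)) * (g : G)⁻¹ := by
            group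
        _ = (g : G) * (((g : G)⁻¹ * y * g) * x) * (g : G)⁻¹ := by rw [hc.eq]
        _ = _ := by group
    have h1 := Components.map_layer_subnormal_le (K := X.subgroupOf N) hn.isSubnormal
    have h2 := Components.map_layer_equiv (subgroupOfEquivOfLe hXN)
    intro x hx
    obtain ⟨x', hx', rfl⟩ := hx
    rw [← h2] at hx'
    obtain ⟨x'', hx'', rfl⟩ := hx'
    exact ⟨_, h1 (mem_map_of_mem _ hx''), rfl⟩

/-- An element of `⟨c⟩` normalising `⟨y⟩` inverts no nontrivial element of the torus. -/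
theorem not_mem_zpowers_of_inverts {w z : G}
    (hwN : w ∈ normalizer (zpowers y : Set G))
    (hz : z ∈ torusPart (c ^ l) (layerIn (centralizer ({y} : Set G)))) (hz1 : z ≠ 1)
    (hwz : w * z * w⁻¹ = z⁻¹) : w ∉ zpowers c := by
  intro hwc
  obtain ⟨k, rfl⟩ := mem_zpowers_iff.1 hwc
  have hD := P.cfg.gen
  set v := c ^ k * s with hv
  set X := centralizer ({y} : Set G) with hX
  set N := normalizer (zpowers y : Set G) with hN
  have hXN : X ≤ N := centralizer_le_normalizer_zpowers y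
  have hsX : s ∈ X :=
    mem_centralizer_singleton_iff.2 (H62.GW.commute_s_of_fix P.mem).symm.eq
  have hvN : v ∈ N := mul_mem hwN (hXN hsX)
  have hvS : v ∈ (S : Subgroup G) := mul_mem (hD.zpow_mem k) hD.mem_s
  have hvv : v * v = 1 := hD.out_mul_self k
  have hvt : Commute v (c ^ l) := hD.z_central hvS
  have hzL : z ∈ layerIn X := hz.2
  have hzo : Odd (orderOf z) := odd_orderOf_of_mem (H62.GW.odd_coreAt _) hz.1
  have hvz : Commute v z := by
    have h1 : s * z * s⁻¹ = z⁻¹ := P.torus_inverted z hz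
    have h2 : c ^ k * z⁻¹ * (c ^ k)⁻¹ = z := by
      rw [← conj_inv, hwz, inv_inv]
    refine (mul_inv_eq_iff_eq_mul.1 (show v * z * v⁻¹ = z from ?_))
    calc v * z * v⁻¹ = c ^ k * (s * z * s⁻¹) * (c ^ k)⁻¹ := by rw [hv]; group
      _ = z := by rw [h1, h2]
  -- the quotient of `N⟨y⟩`
  have hLN := layerIn_normalizer P
  have hNne : N ≠ ⊤ := normalizer_zpowers_ne_top P.cfg P.ne_one
  have hE : layerIn N ≠ ⊥ := fun e =>
    H39.ne_one_of_orderOf_eq_two hD.z_order ((mem_bot (G := G)).1 (e ▸ hLN ▸ P.fused.2.1))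
  obtain ⟨K, hKn, hK, hKC, -, hSD⟩ := H62.GW.layer_quot P.cfg P.cfg.small hNne hE
  haveI := hKn
  subst hK
  set π := QuotientGroup.mk' (Cfsg.oddCore ↥N) with hπ
  set K := (Cfsg.layer ↥N).map π with hK
  -- the layer meets the core of `N` trivially
  have htriv : ∀ x ∈ layerIn X, x ∈ coreIn N → x = 1 := by
    intro x hxL hxO
    obtain ⟨K', hK'n, hK', hK'C, -, -⟩ :=
      H62.GW.layer_quot P.cfg P.cfg.small P.fused.1 (fun e =>
        H39.ne_one_of_orderOf_eq_two hD.z_order ((mem_bot (G := G)).1 (e ▸ P.fused.2.1)))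
    refine P.eq_one_of_layer hxL ((H62.GW.mk_eq_one_iff ⟨x, H62.GW.layerIn_le X hxL⟩).1 ?_)
    refine (mem_bot).1 (hK'C ▸ mem_centralizer_iff.2 fun g hg => ?_)
    rw [hK'] at hg
    obtain ⟨g', hg', rfl⟩ := hg
    have hgL : (g' : G) ∈ layerIn X := ⟨g', hg', rfl⟩
    have h1 := H36.GW.commute_core _ (hLN.symm ▸ hgL) _ hxO
    exact congrArg (QuotientGroup.mk' (Cfsg.oddCore ↥X))
      (show g' * ⟨x, H62.GW.layerIn_le X hxL⟩ = ⟨x, H62.GW.layerIn_le X hxL⟩ * g' from
        Subtype.ext h1.eq)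
  -- `K` is `PSL(2,q₀)`
  obtain ⟨F, iF, iFt, hodd, -, ⟨e₀⟩⟩ := P.layer_iso
  let φ : ↥(Cfsg.layer ↥N) →* ↥K := π.subgroupMap _
  have hinj : Function.Injective φ := (injective_iff_map_eq_one φ).2 fun x hx =>
    Subtype.ext (Subtype.ext (htriv _ (hLN ▸ ⟨_, x.2, rfl⟩)
      ((H62.GW.mk_eq_one_iff (x : ↥N)).1 (congrArg Subtype.val hx))))
  let e : ↥K ≃* PSLn 2 F :=
    (MulEquiv.ofBijective φ ⟨hinj, MonoidHom.subgroupMap_surjective _ _⟩).symm.trans
      (((Cfsg.layer ↥N).equivMapOfInjective _ N.subtype_injective).trans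
        ((MulEquiv.subgroupCongr hLN).trans e₀))
  -- the images
  have hlift : ∀ {x : G}, x ∈ layerIn X → ∃ x' : ↥N, (x' : G) = x ∧ π x' ∈ K := fun {x} hx => by
    obtain ⟨x', hx', e'⟩ := (hLN.symm ▸ hx : x ∈ layerIn N)
    exact ⟨x', e', mem_map_of_mem π hx'⟩
  obtain ⟨z', hz', hzK⟩ := hlift hzL
  obtain ⟨t', ht', htK⟩ := hlift P.fused.2.1
  set v' : ↥N := ⟨v, hvN⟩ with hv'
  have htt : c ^ l * c ^ l = 1 := H39.mul_self_of_orderOf_eq_two hD.z_order
  have hcore1 : ∀ {x : ↥N}, π x = 1 → (x : G) * x = 1 → (x : G) = 1 := fun {x} h h2 =>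
    H62.GW.eq_one_of_odd
      (odd_orderOf_of_mem (H62.GW.odd_coreIn N) ((H62.GW.mk_eq_one_iff x).1 h)) h2
  have hxx : π z' * π z' ≠ 1 := fun h => by
    rw [← map_mul] at h
    have h1 := htriv (z * z) (mul_mem hzL hzL)
      (by simpa [hz'] using (H62.GW.mk_eq_one_iff _).1 h)
    exact hz1 (H62.GW.eq_one_of_odd hzo h1)
  have ht1 : π t' ≠ 1 := fun h => H39.ne_one_of_orderOf_eq_two hD.z_order
    (ht' ▸ hcore1 h (by rw [ht', htt]))
  have hv1 : π v' ≠ 1 := fun h => hD.out_not_mem k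
    (show v ∈ zpowers c by rw [show v = 1 from hcore1 h hvv]; exact one_mem _)
  have hsq : ∀ {x : ↥N}, (x : G) * x = 1 → π x * π x = 1 := fun {x} h => by
    rw [← map_mul, show x * x = 1 from Subtype.ext h, map_one]
  have hcm : ∀ {x x' : ↥N}, Commute (x : G) x' → Commute (π x) (π x') := fun {x x'} h =>
    Commute.map (show Commute x x' from Subtype.ext h.eq) π
  have hct : Commute (π t') (π z') :=
    hcm (by rw [ht', hz']; exact H62.GW.commute_of_mem_coreAt hz.1)
  have hcv : Commute (π v') (π z') := hcm (by rw [hz']; exact hvz)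
  have htt' : π t' * π t' = 1 := hsq (by rw [ht', htt])
  have hvK : π v' ∈ K :=
    H62.GW.mem_of_fixes e hSD hodd hKC hzK hxx htK ht1 htt' hct hv1 (hsq hvv) hcv
  have hone : ∀ {p : ↥N ⧸ Cfsg.oddCore ↥N} (hp : p ∈ K), e ⟨p, hp⟩ = 1 → p = 1 := fun {p} hp hh =>
    congrArg Subtype.val (e.injective (hh.trans (map_one e).symm))
  have hmul : ∀ {p q : ↥N ⧸ Cfsg.oddCore ↥N} (hp : p ∈ K) (hq : q ∈ K), Commute p q →
      Commute (e ⟨p, hp⟩) (e ⟨q, hq⟩) := fun {p q} hp hq h =>
    Commute.map (show Commute (⟨p, hp⟩ : ↥K) ⟨q, hq⟩ from Subtype.ext h.eq) e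
  have hsqe : ∀ {p : ↥N ⧸ Cfsg.oddCore ↥N} (hp : p ∈ K), p * p = 1 →
      e ⟨p, hp⟩ * e ⟨p, hp⟩ = 1 := fun {p} hp h => by
    rw [← map_mul, show (⟨p, hp⟩ : ↥K) * ⟨p, hp⟩ = 1 from Subtype.ext h, map_one]
  have huniq : π t' = π v' := congrArg Subtype.val (e.injective
    (H65.GW.involution_unique_psl (H4.GW.two_ne hodd) (x := e ⟨_, hzK⟩)
      (fun h => hxx (hone (mul_mem hzK hzK) (by
        rw [show (⟨π z' * π z', mul_mem hzK hzK⟩ : ↥K) = ⟨_, hzK⟩ * ⟨_, hzK⟩ from rfl, map_mul, h])))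
      (fun h => ht1 (hone htK h)) (hsqe htK htt') (hmul htK hzK hct)
      (fun h => hv1 (hone hvK h)) (hsqe hvK (hsq hvv)) (hmul hvK hzK hcv)))
  have hprod : π (t' * v') = 1 := by rw [map_mul, huniq]; exact hsq hvv
  have h1 : (c ^ l * v) * (c ^ l * v) = 1 := by
    rw [hvt.mul_mul_mul_comm, htt, hvv, one_mul]
  have h2 : c ^ l * v = 1 := by
    have := hcore1 hprod (by rw [Subgroup.coe_mul, ht']; exact h1)
    rwa [Subgroup.coe_mul, ht'] at this
  exact hD.out_not_mem k (show v ∈ zpowers c by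
    rw [eq_inv_of_mul_eq_one_right h2]; exact inv_mem (Subgroup.pow_mem _ (mem_zpowers c) l))

/-- An element of `S` normalising `⟨y⟩` and inverting a nontrivial element of the torus is an
involution. -/
theorem mul_self_of_inverts {w z : G} (hwS : w ∈ (S : Subgroup G))
    (hwN : w ∈ normalizer (zpowers y : Set G))
    (hz : z ∈ torusPart (c ^ l) (layerIn (centralizer ({y} : Set G)))) (hz1 : z ≠ 1)
    (hwz : w * z * w⁻¹ = z⁻¹) : w * w = 1 := by
  obtain ⟨i, rfl⟩ :=
    P.cfg.gen.out_form hwS (not_mem_zpowers_of_inverts P hwN hz hz1 hwz)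
  exact P.cfg.gen.out_mul_self i

end Cfsg.Agent.H4.GW
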